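import Groth.Agent.Lib.ProjTilde.Ample
import Groth.Agent.Lib.Ample.RelAmple
import Groth.Agent.Lib.ProjSpace.BaseChange
import Groth.Prelude.Def_RelProj

/-!
# An immersion into projective space is quasi-projective
-/

noncomputable section

universe u

open CategoryTheory CategoryTheory.Limits AlgebraicGeometry TopologicalSpace MvPolynomial

namespace Groth.Agent.Lib.HProj.QuasiProj

theorem irrelevant_eq_span (n : ℕ) (R : Type u) [CommRing R] [DecidableEq (MvPolynomial (Fin (n + 1)) R)] :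
    (HomogeneousIdeal.irrelevant (CohB1.polyGrading n R)).toIdeal =
      Ideal.span ((Finset.univ.image (MvPolynomial.X : Fin (n + 1) → MvPolynomial (Fin (n + 1)) R) :
        Finset (MvPolynomial (Fin (n + 1)) R)) : Set (MvPolynomial (Fin (n + 1)) R)) := by
  refine le_antisymm ?_ (Ideal.span_le.2 fun p hp => ?_)
  · intro z hz
    rw [Finset.coe_image, Finset.coe_univ, mem_ideal_span_X_image]
    intro m hm
    by_contra h
    simp only [Set.mem_univ, true_and, not_exists, not_not] at h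
    have hm0 : m = 0 := Finsupp.ext h
    have h' := (HomogeneousIdeal.mem_irrelevant_iff _ _).mp hz
    rw [GradedRing.proj_apply] at h'
    have h'' : homogeneousComponent 0 z = 0 := by
      rw [← decomposition.decompose'_apply]; exact h'
    rw [homogeneousComponent_zero] at h''
    exact (MvPolynomial.mem_support_iff.1 hm) (hm0 ▸ C_injective _ _ (h''.trans C_0.symm))
  · obtain ⟨i, -, rfl⟩ := Finset.mem_image.1 hp
    exact DirectSum.decompose_of_mem_ne (CohB1.polyGrading n R) (isHomogeneous_X R i) one_ne_zero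

theorem isAmple_twist_projSpace (n : ℕ) (R : Type u) [CommRing R] :
    CohB1.IsAmple (Twist.twist (CohB1.polyGrading n R) 1) := by
  classical
  refine ProjTilde.Ample.isAmple_twist_one (Finset.univ.image MvPolynomial.X) (fun f hf => ?_)
    (irrelevant_eq_span n R)
  obtain ⟨i, -, rfl⟩ := Finset.mem_image.1 hf
  exact isHomogeneous_X R i

theorem isQuasiProjective_of_immersion {X S : Scheme.{u}} (f : X ⟶ S) [LocallyOfFiniteType f] [QuasiCompact f]
    (N : ℕ) (j : X ⟶ CohB1.ProjSpaceOver N S) [IsImmersion j]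
    (hj : j ≫ CohB1.ProjSpaceOver.toBase N S = f) : RelProj.IsQuasiProjective f := by
  let Z : Type u := ULift.{u} ℤ
  let p : CohB1.ProjSpaceOver N S ⟶ CohB1.ProjSpace N Z :=
    pullback.fst (CohB1.ProjSpace.toSpec N Z) (specULiftZIsTerminal.from S)
  let M : (CohB1.ProjSpace N Z).Modules := Twist.twist (CohB1.polyGrading N Z) 1
  refine ⟨‹_›, ‹_›, (TensorMod.Pullback.pb (j ≫ p)).obj M, (Ample.RelAmple.isRelAmple_iff f).2 ⟨‹_›, fun V hV => ?_⟩⟩
  haveI : IsAffine (V : Scheme.{u}) := hV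
  haveI : CompactSpace (f ⁻¹ᵁ V : Scheme.{u}) := QuasiCompact.compactSpace_of_compactSpace (f ∣_ V)
  let O := CohB1.ProjSpaceOver.toBase N S ⁻¹ᵁ V
  have hle : f ⁻¹ᵁ V ≤ j ⁻¹ᵁ O := le_of_eq (by rw [← hj]; rfl)
  let k : (f ⁻¹ᵁ V : Scheme.{u}) ⟶ (O : Scheme.{u}) := j.resLE O (f ⁻¹ᵁ V) hle
  haveI : IsImmersion k := by
    have : IsImmersion (k ≫ O.ι) := by rw [Scheme.Hom.resLE_comp_ι]; infer_instance
    exact IsImmersion.of_comp k O.ι
  haveI : IsAffineHom (O.ι ≫ p) := by
    have h1 : IsPullback (O.ι ≫ p) (CohB1.ProjSpaceOver.toBase N S ∣_ V)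
        (CohB1.ProjSpace.toSpec N Z) (V.ι ≫ specULiftZIsTerminal.from S) := by
      have h2 := (isPullback_morphismRestrict (CohB1.ProjSpaceOver.toBase N S) V).flip
      exact (h2.paste_horiz (IsPullback.of_hasPullback _ _))
    exact MorphismProperty.of_isPullback h1.flip (inferInstance : IsAffineHom (V.ι ≫ specULiftZIsTerminal.from S))
  haveI : QuasiSeparatedSpace ↥(CohB1.ProjSpace N Z) := by
    haveI := ProjSpace.Basic.isProper_toSpec N Z
    exact quasiSeparatedSpace_of_quasiSeparated (CohB1.ProjSpace.toSpec N Z)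
  haveI : QuasiSeparatedSpace ↥(O : Scheme.{u}) := quasiSeparatedSpace_of_quasiSeparated (O.ι ≫ p)
  haveI : QuasiCompact k := quasiCompact_of_compactSpace k
  have hq : Mor2.IsQuasiAffine (k ≫ O.ι ≫ p) := by
    refine ⟨inferInstance, fun W hW => ?_⟩
    have h := (Ample.RelAmple.isQuasiAffine_of_isImmersion k).2 ((O.ι ≫ p) ⁻¹ᵁ W) (hW.preimage (O.ι ≫ p))
    rwa [← Scheme.Hom.comp_preimage] at h
  refine Ample.Pow.isAmple_of_iso ?_ (Ample.Pullback.isAmple_pullback _ hq (isAmple_twist_projSpace N Z))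
  exact (Scheme.Modules.pullbackCongr (Scheme.Hom.resLE_comp_ι_assoc j hle p)).app M ≪≫
    ((Scheme.Modules.pullbackComp (f ⁻¹ᵁ V).ι (j ≫ p)).app M).symm

end Groth.Agent.Lib.HProj.QuasiProj
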