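import Groth.Agent.Lib.HProj.Chart
import Groth.Agent.Lib.Chow.Segre
import Mathlib.AlgebraicGeometry.Morphisms.Affine

/-!
# An H-projective morphism is projective
-/

noncomputable section

universe u

open CategoryTheory CategoryTheory.Limits AlgebraicGeometry TopologicalSpace MvPolynomial

namespace Groth.Agent.Lib.HProj

open ProjSpace.Charts ProjSpace.Basic Chow.PointMap Chow.Segre

/-- A pushout of rings is generated by the two images. -/
theorem closure_ranges_of_isPushout {R A B P : CommRingCat.{u}} {a : R ⟶ A} {b : R ⟶ B} {inl : A ⟶ P}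
    {inr : B ⟶ P} (h : IsPushout a b inl inr) :
    Subring.closure (Set.range inl ∪ Set.range inr) = ⊤ := by
  let Q := Subring.closure (Set.range inl ∪ Set.range inr)
  let i : A ⟶ CommRingCat.of Q :=
    CommRingCat.ofHom (inl.hom.codRestrict Q fun x => Subring.subset_closure (Or.inl ⟨x, rfl⟩))
  let j : B ⟶ CommRingCat.of Q :=
    CommRingCat.ofHom (inr.hom.codRestrict Q fun x => Subring.subset_closure (Or.inr ⟨x, rfl⟩))
  have hij : a ≫ i = b ≫ j := CommRingCat.hom_ext (RingHom.ext fun x => Subtype.ext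
    (DFunLike.congr_fun (congrArg CommRingCat.Hom.hom h.w) x))
  have e : h.desc i j hij ≫ CommRingCat.ofHom Q.subtype = 𝟙 P := by
    apply h.hom_ext
    · rw [h.inl_desc_assoc, Category.comp_id]; rfl
    · rw [h.inr_desc_assoc, Category.comp_id]; rfl
  refine eq_top_iff.2 fun x _ => ?_
  have hx : ((h.desc i j hij) x : P) = x := DFunLike.congr_fun (congrArg CommRingCat.Hom.hom e) x
  rw [← hx]
  exact ((h.desc i j hij) x).2

theorem basicOpen_topIso {X : Scheme.{u}} (V : X.Opens) (v : Γ((V : Scheme.{u}), ⊤)) :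
    X.basicOpen (V.topIso.hom v) = V.ι ''ᵁ (V : Scheme.{u}).basicOpen v := by
  rw [Scheme.image_basicOpen, Scheme.Opens.ι_appIso, Scheme.Opens.topIso_hom]
  refine Eq.trans ?_ rfl
  simp
  exact X.basicOpen_res_eq _ _

theorem exists_data {X S : Scheme.{u}} (f : X ⟶ S) (hf : RelProj.IsHProjective f) :
    ∃ N, Nonempty (Data f N) := by
  obtain ⟨N, c, hc, hcf⟩ := hf
  haveI := hc
  let p1 : CohB1.ProjSpaceOver N S ⟶ CohB1.ProjSpace N Z.{u} :=
    pullback.fst (CohB1.ProjSpace.toSpec N Z.{u}) (specULiftZIsTerminal.from S)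
  let g : X ⟶ CohB1.ProjSpace N Z.{u} := c ≫ p1
  let B : Fin (N + 1) → (CohB1.ProjSpace N Z.{u}).Opens := fun i =>
    Proj.basicOpen (CohB1.polyGrading N Z.{u}) (MvPolynomial.X i)
  let V : Fin (N + 1) → X.Opens := fun i => g ⁻¹ᵁ B i
  have hv : ∀ i, ∃ v, IsPt ((V i).ι ≫ g) i v := fun i => exists_isPt _ i fun t => t.2
  choose v hv using hv
  let uu : ∀ i, Fin (N + 1) → Γ(X, V i) := fun i j => (V i).topIso.hom (v i j)
  have hu : ∀ i j, (V i).topIso.inv (uu i j) = v i j := fun i j => by
    simp only [uu]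
    rw [← CommRingCat.comp_apply, Iso.hom_inv_id]
    rfl
  refine ⟨N, ⟨{
    V := V
    cover := ?cover
    u := uu
    u_self := ?uself
    basicOpen_u := ?bas
    rel := ?rel
    affine := ?aff
    gen := ?gen }⟩⟩
  case cover =>
    refine top_le_iff.1 fun x _ => ?_
    obtain ⟨i, hi⟩ := Opens.mem_iSup.1 ((iSup_basicOpen_X_eq_top N Z.{u}).ge (Opens.mem_top (g x)))
    exact Opens.mem_iSup.2 ⟨i, hi⟩
  case uself => intro i; simp only [uu, (hv i).1, map_one]
  case bas =>
    intro i k
    have h : (V i).ι ⁻¹ᵁ V k = (V i : Scheme.{u}).basicOpen (v i k) := (hv i).preimage k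
    show X.basicOpen ((V i).topIso.hom (v i k)) = V i ⊓ V k
    rw [basicOpen_topIso, ← h, Scheme.Hom.image_preimage_eq_opensRange_inf, Scheme.Opens.opensRange_ι]
  case rel =>
    intro i k l W hi hk
    have e1 := (hv i).comp (X.homOfLE hi)
    have e2 := (hv k).comp (X.homOfLE hk)
    rw [Scheme.homOfLE_ι_assoc] at e1 e2
    have r := e1.rel e2 l
    have t : ∀ (m : Fin (N + 1)) (hm : W ≤ V m) (j : Fin (N + 1)),
        (X.homOfLE hm).appTop (v m j) = W.topIso.inv (X.presheaf.map (homOfLE hm).op (uu m j)) := fun m hm j => by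
      rw [← hu, ← CommRingCat.comp_apply, ← CommRingCat.comp_apply]
      exact DFunLike.congr_fun (congrArg CommRingCat.Hom.hom (Data.topIso_inv_homOfLE hm)) (uu m j)
    simp only [t] at r
    rw [← map_mul] at r
    exact (ConcreteCategory.bijective_of_isIso W.topIso.inv).1 r
  all_goals
    intro U hU i
    haveI : IsAffine (U : Scheme.{u}) := hU
    let A : Scheme.{u} := Spec (CommRingCat.of (AwayX Z.{u} i))
    let a : A ⟶ Spec (CommRingCat.of Z.{u}) := awayχ Z.{u} i ≫ CohB1.ProjSpace.toSpec N Z.{u}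
    let t : (U : Scheme.{u}) ⟶ Spec (CommRingCat.of Z.{u}) := U.ι ≫ specULiftZIsTerminal.from S
    let μ : pullback a t ⟶ CohB1.ProjSpaceOver N S :=
      pullback.map a t (CohB1.ProjSpace.toSpec N Z.{u}) (specULiftZIsTerminal.from S) (awayχ Z.{u} i) U.ι (𝟙 _)
        (Category.comp_id _) (Category.comp_id _)
    haveI : IsOpenImmersion (awayχ (n := N) Z.{u} i) := isOpenImmersion_awayχ _ _
    haveI : IsOpenImmersion μ := Scheme.pullback_map_isOpenImmersion _ _ _ _ _ _ _ _ _
    have hrange : c ⁻¹ᵁ μ.opensRange = V i ⊓ f ⁻¹ᵁ U := by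
      ext x
      have hμ : Set.range μ = _ := Scheme.Pullback.range_map a t (CohB1.ProjSpace.toSpec N Z.{u})
        (specULiftZIsTerminal.from S) (awayχ Z.{u} i) U.ι (𝟙 _) (Category.comp_id _) (Category.comp_id _)
      show c x ∈ Set.range μ ↔ g x ∈ B i ∧ f x ∈ U
      rw [hμ]
      simp only [Set.mem_inter_iff, Set.mem_preimage, Scheme.Opens.range_ι]
      rw [← hcf, show Set.range (awayχ Z.{u} i) = (B i : Set (CohB1.ProjSpace N Z.{u})) by
        rw [← Scheme.Hom.coe_opensRange, opensRange_awayχ]]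
      rfl
  case aff =>
    rw [← hrange]
    exact (isAffineOpen_opensRange μ).preimage c
  case gen =>
    let W := V i ⊓ f ⁻¹ᵁ U
    let w : Fin (N + 1) → Γ(W, ⊤) := fun j => (X.homOfLE (inf_le_left : W ≤ V i)).appTop (v i j)
    have hw : IsPt (W.ι ≫ g) i w := by
      have e := (hv i).comp (X.homOfLE (inf_le_left : W ≤ V i))
      rw [Scheme.homOfLE_ι_assoc] at e
      exact e
    let r : (W : Scheme.{u}) ⟶ (U : Scheme.{u}) := f.resLE U W inf_le_right
    let q : (W : Scheme.{u}) ⟶ pullback a t :=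
      pullback.lift (toSpecHom (ptHom i w)) r (specULiftZIsTerminal.hom_ext _ _)
    have hq : q ≫ μ = W.ι ≫ c := by
      have e1 : μ ≫ pullback.fst _ _ = pullback.fst a t ≫ awayχ Z.{u} i := pullback.lift_fst _ _ _
      have e2 : μ ≫ pullback.snd _ _ = pullback.snd a t ≫ U.ι := pullback.lift_snd _ _ _
      apply pullback.hom_ext
      · refine (Category.assoc _ _ _).trans (Eq.trans ?_ (Category.assoc _ _ _).symm)
        exact (congrArg (q ≫ ·) e1).trans ((pullback.lift_fst_assoc _ _ _ _).trans hw.2.symm)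
      · refine (Category.assoc _ _ _).trans (Eq.trans ?_ (Category.assoc _ _ _).symm)
        refine (congrArg (q ≫ ·) e2).trans ((pullback.lift_snd_assoc _ _ _ _).trans ?_)
        rw [Scheme.Hom.resLE_comp_ι, ← hcf]
        rfl
    have hpb : IsPullback q W.ι μ c :=
      IsOpenImmersion.isPullback _ _ _ _ hq.symm (by rw [Scheme.Opens.opensRange_ι]; exact hrange)
    haveI : IsClosedImmersion q := MorphismProperty.of_isPullback hpb.flip hc
    have hsurj : Function.Surjective q.appTop :=
      (IsClosedImmersion.isAffine_surjective_of_isAffine q).2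
    have hpush := closure_ranges_of_isPushout (isPushout_appTop_of_isPullback (IsPullback.of_hasPullback a t))
    refine eq_top_iff.2 fun x _ => ?_
    let T := Subring.closure (Set.range (f.appLE U W inf_le_right) ∪
      Set.range fun j => X.presheaf.map (homOfLE (inf_le_left : W ≤ V i)).op (uu i j))
    show x ∈ T
    obtain ⟨z, hz⟩ := hsurj (W.topIso.inv x)
    have hx : x = W.topIso.hom (q.appTop z) := by
      rw [hz, ← CommRingCat.comp_apply, Iso.inv_hom_id]; rfl
    let ρ : Γ(pullback a t, ⊤) →+* Γ(X, W) := W.topIso.hom.hom.comp q.appTop.hom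
    suffices hρ : Set.range (pullback.fst a t).appTop ∪ Set.range (pullback.snd a t).appTop ⊆ T.comap ρ by
      rw [hx]
      exact Subring.mem_comap.1 ((Subring.closure_le.2 hρ) (hpush.ge (Subring.mem_top z)))
    rintro _ (⟨y, rfl⟩ | ⟨y, rfl⟩)
    · show W.topIso.hom (q.appTop ((pullback.fst a t).appTop y)) ∈ T
      rw [← CommRingCat.comp_apply (pullback.fst a t).appTop, ← Scheme.Hom.comp_appTop, pullback.lift_fst]
      obtain ⟨y', rfl⟩ := (ConcreteCategory.bijective_of_isIso
        (Scheme.ΓSpecIso (CommRingCat.of (AwayX Z.{u} i))).inv).2 y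
      change W.topIso.hom (homOf (toSpecHom (ptHom i w)) y') ∈ T
      rw [homOf_toSpecHom]
      obtain ⟨p, rfl⟩ := (awayEquiv Z.{u} i).surjective y'
      induction p using MvPolynomial.induction_on with
      | C m =>
        have e : ((W.topIso.hom.hom.comp (ptHom i w)).comp
            ((awayEquiv Z.{u} i).toRingHom.comp MvPolynomial.C)) =
            T.subtype.comp ((Int.castRingHom T).comp ULift.ringEquiv.toRingHom) := ringHom_ext_Z _ _
        have e' := DFunLike.congr_fun e m
        refine Eq.subst (motive := fun z => z ∈ T) e'.symm ?_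
        exact (((Int.castRingHom T).comp ULift.ringEquiv.toRingHom) m).2
      | add p q hp hq => rw [map_add, map_add, map_add]; exact add_mem hp hq
      | mul_X p j hp =>
        rw [map_mul, map_mul, map_mul]
        refine mul_mem hp (Subring.subset_closure (Or.inr ⟨j.1, ?_⟩))
        rw [show awayEquiv Z.{u} i (MvPolynomial.X j) = coord Z.{u} i j.1 from awayEquiv_X i j, ptHom_coord hw.1]
        simp only [w]
        show _ = W.topIso.hom ((X.homOfLE (inf_le_left : W ≤ V i)).appTop (v i j.1))
        rw [← hu]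
        have e := DFunLike.congr_fun (congrArg CommRingCat.Hom.hom (Data.topIso_inv_homOfLE (inf_le_left : W ≤ V i)))
          (uu i j.1)
        simp only [CommRingCat.hom_comp, RingHom.comp_apply] at e
        rw [show (X.homOfLE (inf_le_left : W ≤ V i)).appTop ((V i).topIso.inv (uu i j.1)) = _ from e]
        exact (DFunLike.congr_fun (congrArg CommRingCat.Hom.hom W.topIso.inv_hom_id) _).symm
    · show W.topIso.hom (q.appTop ((pullback.snd a t).appTop y)) ∈ T
      rw [← CommRingCat.comp_apply (pullback.snd a t).appTop, ← Scheme.Hom.comp_appTop, pullback.lift_snd]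
      refine Subring.subset_closure (Or.inl ⟨U.topIso.hom y, ?_⟩)
      have e : r.appTop = U.topIso.hom ≫ f.appLE U W inf_le_right ≫ W.topIso.inv := Scheme.Hom.resLE_app_top f _
      rw [e]
      simp only [CommRingCat.hom_comp, RingHom.comp_apply]
      exact (DFunLike.congr_fun (congrArg CommRingCat.Hom.hom W.topIso.inv_hom_id) _).symm

theorem isProjective_of_isHProjective {X S : Scheme.{u}} (f : X ⟶ S) (hf : RelProj.IsHProjective f) :
    RelProj.IsProjective f := by
  obtain ⟨N, ⟨D⟩⟩ := exists_data f hf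
  exact D.isProjective

end Groth.Agent.Lib.HProj
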