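import Groth.Agent.Lib.HProj.AffineBase
import Groth.Agent.Lib.HProj.Main

/-!
# H-projective morphisms: base change; projective morphisms are locally H-projective
-/

noncomputable section

universe u

open CategoryTheory CategoryTheory.Limits AlgebraicGeometry TopologicalSpace

namespace Groth.Agent.Lib.HProj.Local

theorem isHProjective_of_isPullback {X S X' S' : Scheme.{u}} {f : X ⟶ S} {g : S' ⟶ S} {f' : X' ⟶ S'} {g' : X' ⟶ X}
    (h : IsPullback g' f' f g) (hf : RelProj.IsHProjective f) : RelProj.IsHProjective f' := by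
  obtain ⟨n, i, hi, hif⟩ := hf
  let H := ProjSpace.BaseChange.isPullback_overMap n g
  have hw : (g' ≫ i) ≫ CohB1.ProjSpaceOver.toBase n S = f' ≫ g := by rw [Category.assoc, hif, h.w]
  refine ⟨n, H.lift _ _ hw, ?_, H.lift_snd _ _ _⟩
  have hsq : IsPullback g' (H.lift _ _ hw) i (ProjSpace.BaseChange.overMap n g) := by
    refine IsPullback.of_bot ?_ (H.lift_fst _ _ _).symm H
    rw [H.lift_snd, hif]
    exact h
  exact MorphismProperty.of_isPullback hsq hi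

theorem isPullback_restrict_of_le {X S : Scheme.{u}} (f : X ⟶ S) {V U : S.Opens} (h : V ≤ U) :
    IsPullback (X.homOfLE (f.preimage_mono h)) (f ∣_ V) (f ∣_ U) (S.homOfLE h) := by
  refine IsPullback.of_right ?_ ?_ (isPullback_morphismRestrict f U).flip
  · rw [Scheme.homOfLE_ι, Scheme.homOfLE_ι]
    exact (isPullback_morphismRestrict f V).flip
  · rw [← cancel_mono U.ι, Category.assoc, Category.assoc, morphismRestrict_ι, Scheme.homOfLE_ι,
      morphismRestrict_ι, Scheme.homOfLE_ι_assoc]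

theorem isHProjective_restrict_of_le {X S : Scheme.{u}} (f : X ⟶ S) {V U : S.Opens} (h : V ≤ U)
    (hf : RelProj.IsHProjective (f ∣_ U)) : RelProj.IsHProjective (f ∣_ V) :=
  isHProjective_of_isPullback (isPullback_restrict_of_le f h) hf

theorem isHProjective_morphismRestrict_affine {X S : Scheme.{u}} (f : X ⟶ S) (hf : RelProj.IsProjective f)
    {U : S.Opens} (hU : IsAffineOpen U) : RelProj.IsHProjective (f ∣_ U) := by
  classical
  obtain ⟨𝒮, P, p, chart, e, hgen, hft, hP, he⟩ := hf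
  subst he
  obtain ⟨T, hT, hspan⟩ := hft U hU
  let N := T.card
  let t : Fin (N + 1) → 𝒮.presheaf.obj (Opposite.op U) := Fin.cons 0 fun i => ((T.equivFin.symm i).1)
  have ht : ∀ i, t i ∈ 𝒮.deg U hU 1 := fun i => by
    refine Fin.cases ?_ (fun j => ?_) i
    · exact zero_mem _
    · exact hT (T.equivFin.symm j).2
  have hspan' : ∀ x ∈ 𝒮.deg U hU 1, ∃ c : Fin (N + 1) → Γ(S, U),
      x = ∑ i, (((𝒮.strZero U hU).hom (c i)).1) * t i := fun x hx => by
    obtain ⟨c, hc⟩ := hspan x hx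
    refine ⟨Fin.cons 0 fun i => c (T.equivFin.symm i).1, ?_⟩
    rw [hc, Fin.sum_univ_succ, ← Finset.sum_coe_sort, ← Equiv.sum_comp T.equivFin.symm]
    simp [t]
    rfl
  let c₀ := AffineBase.toProjSpace (𝒮.deg U hU) (𝒮.strZero U hU).hom t ht (hgen U hU) hspan'
  haveI : IsClosedImmersion c₀ := AffineBase.isClosedImmersion_toProjSpace _ _ _ _ _ _
  have hbc := ProjSpace.BaseChange.isPullback_overMap N hU.isoSpec.inv
  haveI : IsIso (ProjSpace.BaseChange.overMap N hU.isoSpec.inv) := hbc.isIso_fst_of_isIso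
  have hc₀ : c₀ ≫ CohB1.ProjSpace.toSpec N Γ(S, U) = RelProjBasics.Basic.chartStr 𝒮 U hU :=
    AffineBase.toProjSpace_toSpec _ _ _ _ _ _
  let c₁ : Proj (𝒮.deg U hU) ⟶ CohB1.ProjSpaceOver N (U : Scheme.{u}) :=
    c₀ ≫ (ProjSpace.BaseChange.overSpecIso N Γ(S, U)).inv ≫ ProjSpace.BaseChange.overMap N hU.isoSpec.inv
  haveI : IsClosedImmersion c₁ := by
    dsimp only [c₁]
    exact MorphismProperty.comp_mem _ _ _ ‹IsClosedImmersion c₀› inferInstance
  haveI : IsIso (e.hom ∣_ (p ⁻¹ᵁ U)) := inferInstance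
  haveI hA : IsClosedImmersion (e.hom ∣_ (p ⁻¹ᵁ U) ≫ (chart U hU).hom) := inferInstance
  refine ⟨N, ((e.hom ∣_ (p ⁻¹ᵁ U)) ≫ (chart U hU).hom) ≫ c₁, MorphismProperty.comp_mem _ _ _ hA ‹IsClosedImmersion c₁›, ?_⟩
  dsimp only [c₁]
  simp only [Category.assoc]
  erw [ProjSpace.BaseChange.overMap_toBase, ProjSpace.BaseChange.overSpecIso_inv_toBase_assoc]
  rw [morphismRestrict_comp, RelProjBasics.Basic.morphismRestrict_eq hP U hU, ← hc₀]
  simp only [Category.assoc]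
  rfl

theorem isLocallyProjective_iff {X S : Scheme.{u}} (f : X ⟶ S) :
    RelProj.IsLocallyProjective f ↔ ∀ s : S, ∃ U : S.Opens, s ∈ U ∧ RelProj.IsHProjective (f ∣_ U) := by
  constructor
  · intro h s
    obtain ⟨U, hs, hU⟩ := h s
    obtain ⟨(V : S.Opens), hV, hsV, hle⟩ := Opens.isBasis_iff_nbhd.1 S.isBasis_affineOpens hs
    have hV' : IsAffineOpen (U.ι ⁻¹ᵁ V) := by
      refine hV.preimage_of_isOpenImmersion U.ι ?_
      rw [Scheme.Opens.opensRange_ι]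
      exact hle
    have h2 := isHProjective_morphismRestrict_affine _ hU hV'
    refine ⟨V, hsV, ?_⟩
    have hpb : IsPullback ((((f ∣_ U) ⁻¹ᵁ (U.ι ⁻¹ᵁ V) : (f ⁻¹ᵁ U : Scheme.{u}).Opens)).ι ≫ (f ⁻¹ᵁ U).ι)
        ((f ∣_ U) ∣_ (U.ι ⁻¹ᵁ V)) f ((U.ι ⁻¹ᵁ V).ι ≫ U.ι) :=
      (isPullback_morphismRestrict (f ∣_ U) (U.ι ⁻¹ᵁ V)).flip.paste_horiz (isPullback_morphismRestrict f U).flip
    have hr : Set.range ((U.ι ⁻¹ᵁ V).ι ≫ U.ι) = Set.range V.ι := by
      rw [Scheme.Opens.range_ι, Scheme.Hom.comp_base, TopCat.coe_comp, Set.range_comp, Scheme.Opens.range_ι]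
      ext x
      constructor
      · rintro ⟨y, hy, rfl⟩; exact hy
      · intro hx; exact ⟨⟨x, hle hx⟩, hx, rfl⟩
    let i : (V : Scheme.{u}) ≅ (U.ι ⁻¹ᵁ V : (U : Scheme.{u}).Opens) :=
      IsOpenImmersion.isoOfRangeEq V.ι ((U.ι ⁻¹ᵁ V).ι ≫ U.ι) hr.symm
    have hi : i.hom ≫ (U.ι ⁻¹ᵁ V).ι ≫ U.ι = V.ι := IsOpenImmersion.isoOfRangeEq_hom_fac _ _ _
    have hV2 := (isPullback_morphismRestrict f V).flip
    refine isHProjective_of_isPullback (f := (f ∣_ U) ∣_ (U.ι ⁻¹ᵁ V)) (g := i.hom)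
      (g' := hpb.lift (f ⁻¹ᵁ V).ι ((f ∣_ V) ≫ i.hom) (by rw [Category.assoc, hi, morphismRestrict_ι])) ?_ h2
    refine IsPullback.of_right ?_ (hpb.lift_snd _ _ _) hpb
    rw [hpb.lift_fst, hi]
    exact hV2
  · intro h s
    obtain ⟨U, hs, hU⟩ := h s
    exact ⟨U, hs, isProjective_of_isHProjective _ hU⟩

theorem isLocallyProjective_pullback_snd {X S S' : Scheme.{u}} (f : X ⟶ S) (hf : RelProj.IsLocallyProjective f)
    (g : S' ⟶ S) : RelProj.IsLocallyProjective (pullback.snd f g) := by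
  refine (isLocallyProjective_iff _).2 fun s => ?_
  obtain ⟨U, hs, hU⟩ := (isLocallyProjective_iff f).1 hf (g s)
  refine ⟨g ⁻¹ᵁ U, hs, ?_⟩
  have h1 : IsPullback (((pullback.snd f g) ⁻¹ᵁ (g ⁻¹ᵁ U)).ι ≫ pullback.fst f g) (pullback.snd f g ∣_ (g ⁻¹ᵁ U)) f
      ((g ⁻¹ᵁ U).ι ≫ g) :=
    (isPullback_morphismRestrict (pullback.snd f g) (g ⁻¹ᵁ U)).flip.paste_horiz (IsPullback.of_hasPullback f g)
  have h2 : (g ⁻¹ᵁ U).ι ≫ g = (g ∣_ U) ≫ U.ι := (morphismRestrict_ι g U).symm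
  let H := (isPullback_morphismRestrict f U).flip
  refine isHProjective_of_isPullback (g := g ∣_ U)
    (g' := H.lift (((pullback.snd f g) ⁻¹ᵁ (g ⁻¹ᵁ U)).ι ≫ pullback.fst f g)
      ((pullback.snd f g ∣_ (g ⁻¹ᵁ U)) ≫ (g ∣_ U)) (by rw [h1.w, h2, Category.assoc])) ?_ hU
  refine IsPullback.of_right ?_ (H.lift_snd _ _ _) H
  rw [H.lift_fst, ← h2]
  exact h1

end Groth.Agent.Lib.HProj.Local
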