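import Groth.Agent.Lib.RelProjBasics.Basic
import Groth.Agent.Lib.Chow.PointMap
import Mathlib.RingTheory.IntegralClosure.IsIntegral.Basic
import Mathlib.LinearAlgebra.Matrix.Charpoly.LinearMap
import Mathlib.AlgebraicGeometry.Morphisms.Integral
import Mathlib.AlgebraicGeometry.Morphisms.Proper

/-!
# A projective morphism is proper

With `𝒮₁` of finite type, `𝒮₀ / Ann 𝒮₁` is integral over the base, and `Proj 𝒮` lies over it.
-/

noncomputable section

universe u

open CategoryTheory AlgebraicGeometry TopologicalSpace Opposite HomogeneousLocalization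

namespace Groth.Agent.Lib.HProj.Proper

open Chow.PointMap

/-- A scalar of an algebra preserving a finitely generated submodule on which it acts faithfully is integral. -/
theorem isIntegral_of_faithful {R B M : Type u} [CommRing R] [CommRing B] [Algebra R B] [AddCommGroup M]
    [Module R M] [Module B M] [IsScalarTower R B M] [Module.Finite R M] [FaithfulSMul B M] (b : B) :
    _root_.IsIntegral R b := by
  obtain ⟨p, hp, hp0⟩ := LinearMap.exists_monic_and_aeval_eq_zero R (Algebra.lsmul R R M b)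
  refine ⟨p, hp, ?_⟩
  rw [← Polynomial.aeval_def]
  refine eq_of_smul_eq_smul (α := M) fun m => ?_
  rw [zero_smul]
  have h := DFunLike.congr_fun hp0 m
  rw [Polynomial.aeval_algHom_apply] at h
  exact h

section Ring

variable {A : Type u} [CommRing A] (𝒜 : ℕ → AddSubgroup A) [GradedRing 𝒜]

/-- The annihilator of the degree-one part, in degree zero. -/
def ann : Ideal (𝒜 0) where
  carrier := {a | ∀ x ∈ 𝒜 1, (a : A) * x = 0}
  add_mem' {a b} ha hb x hx := by
    show ((a : A) + (b : A)) * x = 0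
    rw [add_mul, ha x hx, hb x hx, add_zero]
  zero_mem' x _ := zero_mul x
  smul_mem' c a ha x hx := by
    show ((c : A) * (a : A)) * x = 0
    rw [mul_assoc, ha x hx, mul_zero]

theorem homOf_toSpecZero_eq_zero (T : Finset A) (hT : ∀ t ∈ T, t ∈ 𝒜 1)
    (hadj : Algebra.adjoin (𝒜 0) (T : Set A) = ⊤) {a : 𝒜 0} (ha : a ∈ ann 𝒜) :
    homOf (Proj.toSpecZero 𝒜) a = 0 := by
  have hcov := Proj.iSup_basicOpen_eq_top' 𝒜 (ι := T) (fun t => (t : A)) (fun i => ⟨_, hT i i.2⟩)
    (by rw [Subtype.range_coe_subtype]; exact hadj)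
  let 𝒰 : (Proj 𝒜).OpenCover := .mkOfCovers T (fun t => Spec (.of (Away 𝒜 (t : A))))
    (fun t => Proj.awayι 𝒜 (t : A) (hT t t.2) one_pos)
    (fun x => by
      obtain ⟨t, ht⟩ := Opens.mem_iSup.1 (hcov.ge (Opens.mem_top x))
      rw [← Proj.opensRange_awayι 𝒜 (t : A) (hT t t.2) one_pos] at ht
      exact ⟨t, ht⟩)
    (fun _ => inferInstance)
  let e : Γ(Proj 𝒜, ⊤) → (Polynomial (ULift.{u} ℤ) →+* Γ(Proj 𝒜, ⊤)) := fun b =>
    Polynomial.eval₂RingHom ((Int.castRingHom _).comp ULift.ringEquiv.toRingHom) b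
  have key : toSpecHom (e (homOf (Proj.toSpecZero 𝒜) a)) = toSpecHom (e 0) := by
    refine Scheme.Cover.hom_ext 𝒰 _ _ fun (t : T) => ?_
    show Proj.awayι 𝒜 (t : A) (hT t t.2) one_pos ≫ _ = Proj.awayι 𝒜 (t : A) (hT t t.2) one_pos ≫ _
    rw [comp_toSpecHom, comp_toSpecHom]
    congr 1
    refine Polynomial.ringHom_ext (fun n => ?_) ?_
    · simp [e]
    · have h0 : fromZeroRingHom 𝒜 (Submonoid.powers (t : A)) a = 0 := by
        apply HomogeneousLocalization.val_injective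
        rw [HomogeneousLocalization.val_zero]
        show Localization.mk (a : A) ⟨(1 : A), _⟩ = 0
        rw [Localization.mk_eq_mk', IsLocalization.mk'_eq_zero_iff]
        exact ⟨⟨(t : A), Submonoid.mem_powers _⟩, by rw [mul_comm]; exact ha _ (hT t t.2)⟩
      have h1 : (Proj.awayι 𝒜 (t : A) (hT t t.2) one_pos).appTop (homOf (Proj.toSpecZero 𝒜) a) =
          homOf (Spec.map (CommRingCat.ofHom (fromZeroRingHom 𝒜 (Submonoid.powers (t : A))))) a := by
        rw [← Proj.awayι_toSpecZero 𝒜 (t : A) (hT t t.2) one_pos, homOf, homOf, Scheme.Hom.comp_appTop]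
        rfl
      have h2 : homOf (Spec.map (CommRingCat.ofHom (fromZeroRingHom 𝒜 (Submonoid.powers (t : A))))) a = 0 := by
        have e' := Scheme.ΓSpecIso_inv_naturality
          (CommRingCat.ofHom (fromZeroRingHom 𝒜 (Submonoid.powers (t : A))))
        rw [homOf, ← e', CommRingCat.hom_comp, RingHom.comp_apply, CommRingCat.hom_ofHom, h0, map_zero]
      simp only [e, RingHom.comp_apply, Polynomial.coe_eval₂RingHom, Polynomial.eval₂_X, map_zero]
      exact h1.trans h2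
  have hee := DFunLike.congr_fun (toSpecHom_injective key) Polynomial.X
  simpa [e] using hee

theorem isIntegral_mk_comp {R : Type u} [CommRing R] (ψ : R →+* 𝒜 0) (T : Finset A) (hT : ∀ t ∈ T, t ∈ 𝒜 1)
    (hspan : ∀ x ∈ 𝒜 1, ∃ c : A → R, x = ∑ t ∈ T, (ψ (c t) : A) * t) :
    ((Ideal.Quotient.mk (ann 𝒜)).comp ψ).IsIntegral := by
  classical
  have hsmul : ∀ (b : 𝒜 0 ⧸ ann 𝒜) (x : 𝒜 1), ∃ y : 𝒜 1, ∀ a : 𝒜 0, Ideal.Quotient.mk (ann 𝒜) a = b →
      (y : A) = (a : A) * x := by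
    intro b x
    obtain ⟨a₀, rfl⟩ := Ideal.Quotient.mk_surjective b
    refine ⟨⟨(a₀ : A) * x, by simpa using SetLike.mul_mem_graded a₀.2 x.2⟩, fun a ha => ?_⟩
    have h4 : ((a : A) - (a₀ : A)) * (x : A) = 0 := (Ideal.Quotient.eq.1 ha) x x.2
    rw [sub_mul, sub_eq_zero] at h4
    exact h4.symm
  choose act hact using hsmul
  let _mB : Module (𝒜 0 ⧸ ann 𝒜) (𝒜 1) :=
    { smul := act
      one_smul := fun x => Subtype.ext ((hact 1 x 1 (map_one _)).trans (one_mul _))
      mul_smul := fun b c x => by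
        obtain ⟨b, rfl⟩ := Ideal.Quotient.mk_surjective b
        obtain ⟨c, rfl⟩ := Ideal.Quotient.mk_surjective c
        refine Subtype.ext ((hact _ x (b * c) (map_mul _ _ _)).trans ?_)
        show _ = ((act _ (act _ x) : 𝒜 1) : A)
        rw [hact _ _ b rfl, hact _ _ c rfl]
        exact mul_assoc _ _ _
      smul_zero := fun b => by
        obtain ⟨b, rfl⟩ := Ideal.Quotient.mk_surjective b
        exact Subtype.ext ((hact _ 0 b rfl).trans (mul_zero _))
      smul_add := fun b x y => by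
        obtain ⟨b, rfl⟩ := Ideal.Quotient.mk_surjective b
        refine Subtype.ext ((hact _ (x + y) b rfl).trans ?_)
        show _ = ((act _ x : 𝒜 1) : A) + ((act _ y : 𝒜 1) : A)
        rw [hact _ x b rfl, hact _ y b rfl]
        exact mul_add _ _ _
      add_smul := fun b c x => by
        obtain ⟨b, rfl⟩ := Ideal.Quotient.mk_surjective b
        obtain ⟨c, rfl⟩ := Ideal.Quotient.mk_surjective c
        refine Subtype.ext ((hact _ x (b + c) (map_add _ _ _)).trans ?_)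
        show _ = ((act _ x : 𝒜 1) : A) + ((act _ x : 𝒜 1) : A)
        rw [hact _ x b rfl, hact _ x c rfl]
        exact add_mul _ _ _
      zero_smul := fun x => Subtype.ext ((hact 0 x 0 (map_zero _)).trans (zero_mul _)) }
  let _aB : Algebra R (𝒜 0 ⧸ ann 𝒜) := RingHom.toAlgebra (R := R) (S := 𝒜 0 ⧸ ann 𝒜) ((Ideal.Quotient.mk (ann 𝒜)).comp ψ)
  let _mR : Module R (𝒜 1) := Module.compHom _ ((Ideal.Quotient.mk (ann 𝒜)).comp ψ)
  have : IsScalarTower R (𝒜 0 ⧸ ann 𝒜) (𝒜 1) := IsScalarTower.of_algebraMap_smul fun _ _ => rfl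
  have hR : ∀ (r : R) (x : 𝒜 1), ((r • x : 𝒜 1) : A) = (ψ r : A) * x := fun r x => hact _ x (ψ r) rfl
  have : Module.Finite R (𝒜 1) := by
    refine ⟨⟨Finset.univ.image (fun t : T => (⟨t, hT t t.2⟩ : 𝒜 1)), top_le_iff.1 fun x _ => ?_⟩⟩
    obtain ⟨c, hc⟩ := hspan x x.2
    have : x = ∑ t : T, c t • (⟨t, hT t t.2⟩ : 𝒜 1) := by
      refine Subtype.ext ?_
      rw [hc, AddSubmonoidClass.coe_finsetSum, ← Finset.sum_coe_sort]
      exact Finset.sum_congr rfl fun t _ => (hR (c t) (⟨t, hT t t.2⟩ : 𝒜 1)).symm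
    rw [this]
    exact Submodule.sum_mem _ fun t _ => Submodule.smul_mem _ _
      (Submodule.subset_span (Finset.mem_coe.2 (Finset.mem_image_of_mem _ (Finset.mem_univ t))))
  have : FaithfulSMul (𝒜 0 ⧸ ann 𝒜) (𝒜 1) := ⟨fun {b c} hbc => by
    obtain ⟨b, rfl⟩ := Ideal.Quotient.mk_surjective b
    obtain ⟨c, rfl⟩ := Ideal.Quotient.mk_surjective c
    refine Ideal.Quotient.eq.2 fun x hx => ?_
    have h6 : (b : A) * x = (c : A) * x := by
      rw [← hact _ ⟨x, hx⟩ b rfl, ← hact _ ⟨x, hx⟩ c rfl]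
      exact congrArg Subtype.val (hbc ⟨x, hx⟩)
    show ((b : A) - (c : A)) * x = 0
    rw [sub_mul, h6, sub_self]⟩
  exact fun b => isIntegral_of_faithful (R := R) (M := (𝒜 1)) b

theorem universallyClosed_toSpecZero_comp {R : Type u} [CommRing R] (ψ : R →+* 𝒜 0) (T : Finset A)
    (hT : ∀ t ∈ T, t ∈ 𝒜 1) (hadj : Algebra.adjoin (𝒜 0) (T : Set A) = ⊤)
    (hspan : ∀ x ∈ 𝒜 1, ∃ c : A → R, x = ∑ t ∈ T, (ψ (c t) : A) * t) :
    UniversallyClosed (Proj.toSpecZero 𝒜 ≫ Spec.map (CommRingCat.ofHom ψ)) := by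
  have : Algebra.FiniteType (𝒜 0) A := ⟨⟨T, hadj⟩⟩
  let κ := CommRingCat.ofHom (R := 𝒜 0) (S := 𝒜 0 ⧸ ann 𝒜) (Ideal.Quotient.mk (ann 𝒜))
  let h : Proj 𝒜 ⟶ Spec (CommRingCat.of (𝒜 0 ⧸ ann 𝒜)) :=
    toSpecHom (Ideal.Quotient.lift (ann 𝒜) (homOf (Proj.toSpecZero 𝒜))
      fun a ha => homOf_toSpecZero_eq_zero 𝒜 T hT hadj ha)
  have hh : h ≫ Spec.map κ = Proj.toSpecZero 𝒜 := by
    refine (toSpecHom_specMap _ _).trans ?_
    refine Eq.trans ?_ (toSpecHom_homOf (Proj.toSpecZero 𝒜))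
    congr 1
  have : IsClosedImmersion (Spec.map κ) := IsClosedImmersion.spec_of_surjective _ Ideal.Quotient.mk_surjective
  have : IsProper (h ≫ Spec.map κ) := by rw [hh]; infer_instance
  have : IsProper h := IsProper.of_comp h (Spec.map κ)
  let σ := CommRingCat.ofHom (R := R) (S := 𝒜 0 ⧸ ann 𝒜) ((Ideal.Quotient.mk (ann 𝒜)).comp ψ)
  have : IsIntegralHom (Spec.map σ) := IsIntegralHom.SpecMap_iff.2 (isIntegral_mk_comp 𝒜 ψ T hT hspan)
  rw [← hh, Category.assoc, ← Spec.map_comp]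
  exact inferInstanceAs (UniversallyClosed (h ≫ Spec.map σ))

end Ring

variable {Y : Scheme.{u}} {𝒮 : RelProj.QCGrAlg Y} {P : Scheme.{u}} {p : P ⟶ Y}
  {chart : ∀ (U : Y.Opens) (hU : IsAffineOpen U), ((p ⁻¹ᵁ U : P.Opens) : Scheme.{u}) ≅ Proj (𝒮.deg U hU)}

theorem universallyClosed_chartStr (hgen : 𝒮.IsGenDegOne) (hft : 𝒮.IsFTDeg 1) (U : Y.Opens) (hU : IsAffineOpen U) :
    UniversallyClosed (RelProjBasics.Basic.chartStr 𝒮 U hU) := by
  obtain ⟨T, hT, hspan⟩ := hft U hU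
  exact universallyClosed_toSpecZero_comp (𝒮.deg U hU) (𝒮.strZero U hU).hom T (fun t ht => hT ht)
    (RelProjBasics.Basic.adjoin_eq_top hgen U hU hspan) hspan

theorem isProper_of_isRelProj (hP : RelProj.IsRelProj 𝒮 p chart) (hgen : 𝒮.IsGenDegOne) (hft : 𝒮.IsFTDeg 1) :
    IsProper p := by
  haveI := RelProjBasics.Basic.isSeparated hP
  haveI := (RelProjBasics.Basic.finiteType_of_isGenDegOne hP hgen hft).1
  haveI : UniversallyClosed p :=
    RelProjBasics.Basic.of_chart hP @UniversallyClosed fun U hU => universallyClosed_chartStr hgen hft U hU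
  exact {}

theorem isProper_of_isProjective {X : Scheme.{u}} {f : X ⟶ Y} (hf : RelProj.IsProjective f) : IsProper f := by
  obtain ⟨𝒮, P, p, chart, e, hgen, hft, hP, he⟩ := hf
  haveI := isProper_of_isRelProj hP hgen hft
  rw [← he]
  infer_instance

end Groth.Agent.Lib.HProj.Proper
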