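import Groth.Agent.Lib.HProj.Data
import Groth.Prelude.Def_RelProj
import Mathlib.Topology.Sheaves.SheafCondition.UniqueGluing

/-!
# The graded algebra of a closed subscheme of projective space

Over an open `W`, the subring of the ambient ring of elements locally in the image of evaluation; on an affine open it is
exactly the image, and it is graded by the degree in `t`.
-/

noncomputable section

universe u

open CategoryTheory AlgebraicGeometry TopologicalSpace MvPolynomial Opposite

namespace Groth.Agent.Lib.HProj.Data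

variable {X S : Scheme.{u}} {f : X ⟶ S} {N : ℕ} (D : Data f N)

/-- Locally an evaluation. -/
def IsLocal (W : S.Opens) (s : D.Amb W) : Prop :=
  ∀ x ∈ W, ∃ (V : S.Opens) (_ : IsAffineOpen V) (h : V ≤ W), x ∈ V ∧ ∃ p, D.ev V p = D.ares h s

theorem exists_common {W : S.Opens} {s t : D.Amb W} (hs : D.IsLocal W s) (ht : D.IsLocal W t) {x : S}
    (hx : x ∈ W) : ∃ (V : S.Opens) (_ : IsAffineOpen V) (h : V ≤ W), x ∈ V ∧
      (∃ p, D.ev V p = D.ares h s) ∧ ∃ q, D.ev V q = D.ares h t := by
  obtain ⟨V₁, -, h₁, hx₁, p, hp⟩ := hs x hx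
  obtain ⟨V₂, -, h₂, hx₂, q, hq⟩ := ht x hx
  obtain ⟨V, hV, hxV, hle⟩ := Opens.isBasis_iff_nbhd.1 S.isBasis_affineOpens (show x ∈ V₁ ⊓ V₂ from ⟨hx₁, hx₂⟩)
  refine ⟨V, hV, (hle.trans inf_le_left).trans h₁, hxV, ⟨polyRes (hle.trans inf_le_left) p, ?_⟩,
    ⟨polyRes (hle.trans inf_le_right) q, ?_⟩⟩
  · rw [← ev_res, hp, ares_ares]
  · rw [← ev_res, hq, ares_ares]

theorem isLocal_ev (W : S.Opens) (p : MvPolynomial (Fin (N + 1)) Γ(S, W)) : D.IsLocal W (D.ev W p) := by
  intro x hx
  obtain ⟨V, hV, hxV, hle⟩ := Opens.isBasis_iff_nbhd.1 S.isBasis_affineOpens hx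
  exact ⟨V, hV, hle, hxV, polyRes hle p, (D.ev_res hle p).symm⟩

/-- The sections over `W`. -/
def sect (W : S.Opens) : Subring (D.Amb W) where
  carrier := {s | D.IsLocal W s}
  zero_mem' := by simpa using D.isLocal_ev W 0
  one_mem' := by simpa using D.isLocal_ev W 1
  add_mem' {s t} hs ht x hx := by
    obtain ⟨V, hV, h, hxV, ⟨p, hp⟩, q, hq⟩ := D.exists_common hs ht hx
    exact ⟨V, hV, h, hxV, p + q, by rw [map_add, map_add, hp, hq]⟩
  mul_mem' {s t} hs ht x hx := by
    obtain ⟨V, hV, h, hxV, ⟨p, hp⟩, q, hq⟩ := D.exists_common hs ht hx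
    exact ⟨V, hV, h, hxV, p * q, by rw [map_mul, map_mul, hp, hq]⟩
  neg_mem' {s} hs x hx := by
    obtain ⟨V, hV, h, hxV, p, hp⟩ := hs x hx
    exact ⟨V, hV, h, hxV, -p, by rw [map_neg, map_neg, hp]⟩

theorem mem_sect {W : S.Opens} {s : D.Amb W} : s ∈ D.sect W ↔ D.IsLocal W s := Iff.rfl

theorem ares_mem {W W' : S.Opens} (h : W' ≤ W) {s : D.Amb W} (hs : s ∈ D.sect W) : D.ares h s ∈ D.sect W' := by
  intro x hx
  obtain ⟨V, -, hle, hxV, p, hp⟩ := hs x (h hx)
  obtain ⟨V', hV', hxV', hle'⟩ := Opens.isBasis_iff_nbhd.1 S.isBasis_affineOpens (show x ∈ V ⊓ W' from ⟨hxV, hx⟩)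
  refine ⟨V', hV', hle'.trans inf_le_right, hxV', polyRes (hle'.trans inf_le_left) p, ?_⟩
  rw [← ev_res, hp, ares_ares, ares_ares]

/-- Restriction of sections. -/
def sres {W W' : S.Opens} (h : W' ≤ W) : D.sect W →+* D.sect W' :=
  ((D.ares h).comp (D.sect W).subtype).codRestrict _ fun s => D.ares_mem h s.2

@[simp] theorem sres_coe {W W' : S.Opens} (h : W' ≤ W) (s : D.sect W) :
    (D.sres h s : D.Amb W') = D.ares h s := rfl

/-- The presheaf of rings. -/
def presheaf : TopCat.Presheaf CommRingCat.{u} S.carrier where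
  obj W := CommRingCat.of (D.sect W.unop)
  map {W W'} i := CommRingCat.ofHom (D.sres i.unop.le)
  map_id W := CommRingCat.hom_ext (RingHom.ext fun s => Subtype.ext (D.ares_self le_rfl s.1))
  map_comp i j := CommRingCat.hom_ext (RingHom.ext fun s =>
    Subtype.ext (D.ares_ares i.unop.le j.unop.le s.1).symm)

theorem presheaf_map_coe {W W' : (Opens S)ᵒᵖ} (i : W ⟶ W') (s : D.sect W.unop) :
    ((D.presheaf.map i).hom s : D.sect W'.unop).1 = D.ares i.unop.le s.1 := rfl

theorem piece_le_iSup {J : Type*} (U : J → S.Opens) (i : Fin (N + 1)) :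
    D.piece i (iSup U) ≤ ⨆ k, D.piece i (U k) := by
  intro x hx
  obtain ⟨k, hk⟩ := Opens.mem_iSup.1 (show f x ∈ iSup U from hx.2)
  exact Opens.mem_iSup.2 ⟨k, hx.1, hk⟩

theorem ext_iSup {J : Type*} (U : J → S.Opens) {s t : D.Amb (iSup U)}
    (h : ∀ k, D.ares (le_iSup U k) s = D.ares (le_iSup U k) t) : s = t := by
  funext i
  ext d
  refine X.sheaf.eq_of_locally_eq' (fun k => D.piece i (U k)) (D.piece i (iSup U))
    (fun k => homOfLE (D.piece_mono i (le_iSup U k))) (D.piece_le_iSup U i) _ _ fun k => ?_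
  have := congrArg (fun z => PowerSeries.coeff d (z i)) (h k)
  simp only [coeff_ares] at this
  exact this

theorem isSheaf_presheaf : D.presheaf.IsSheaf := by
  rw [TopCat.Presheaf.isSheaf_iff_isSheaf_comp (forget CommRingCat)]
  refine TopCat.Presheaf.isSheaf_of_isSheafUniqueGluing_types _ ?_
  intro ι U sf hsf
  let t : ∀ k, D.sect (U k) := sf
  have hcompat : ∀ k l, D.ares (inf_le_left : U k ⊓ U l ≤ U k) (t k).1 =
      D.ares (inf_le_right : U k ⊓ U l ≤ U l) (t l).1 := fun k l => congrArg Subtype.val (hsf k l)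
  have hg : ∀ (i : Fin (N + 1)) (d : ℕ), ∃ c : Γ(X, D.piece i (iSup U)),
      ∀ k, D.pres i (le_iSup U k) c = PowerSeries.coeff d ((t k).1 i) := by
    intro i d
    obtain ⟨c, hc, -⟩ := X.sheaf.existsUnique_gluing' (fun k => D.piece i (U k)) (D.piece i (iSup U))
      (fun k => homOfLE (D.piece_mono i (le_iSup U k))) (D.piece_le_iSup U i)
      (fun k => PowerSeries.coeff d ((t k).1 i)) fun k l => by
        have h := congrArg (fun z => PowerSeries.coeff d (z i)) (hcompat k l)
        simp only [coeff_ares, pres] at h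
        have hle : D.piece i (U k) ⊓ D.piece i (U l) ≤ D.piece i (U k ⊓ U l) := fun x hx =>
          ⟨hx.1.1, hx.1.2, hx.2.2⟩
        have h' := congrArg (X.presheaf.map (homOfLE hle).op) h
        rw [← CommRingCat.comp_apply, ← CommRingCat.comp_apply, ← Functor.map_comp, ← Functor.map_comp] at h'
        exact h'
    exact ⟨c, hc⟩
  choose c hc using hg
  let s : D.Amb (iSup U) := fun i => PowerSeries.mk (c i)
  have hs : ∀ k, D.ares (le_iSup U k) s = (t k).1 := fun k => by
    funext i
    ext d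
    rw [coeff_ares, PowerSeries.coeff_mk, hc]
  have hmem : s ∈ D.sect (iSup U) := by
    intro x hx
    obtain ⟨k, hk⟩ := Opens.mem_iSup.1 hx
    obtain ⟨V, hV, hle, hxV, p, hp⟩ := (t k).2 x hk
    refine ⟨V, hV, hle.trans (le_iSup U k), hxV, p, ?_⟩
    rw [hp, ← hs k, ares_ares]
  refine ⟨(⟨s, hmem⟩ : D.sect (iSup U)), fun k => Subtype.ext (hs k), fun y hy => ?_⟩
  refine Subtype.ext (D.ext_iSup U fun k => ?_)
  rw [hs k]
  exact congrArg Subtype.val (hy k)

/-- Evaluation into the sections. -/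
def evA (W : S.Opens) : MvPolynomial (Fin (N + 1)) Γ(S, W) →+* D.sect W :=
  (D.ev W).codRestrict _ (D.isLocal_ev W)

@[simp] theorem evA_coe (W : S.Opens) (p : MvPolynomial (Fin (N + 1)) Γ(S, W)) :
    (D.evA W p : D.Amb W) = D.ev W p := rfl

theorem sres_evA {W W' : S.Opens} (h : W' ≤ W) (p : MvPolynomial (Fin (N + 1)) Γ(S, W)) :
    D.sres h (D.evA W p) = D.evA W' (polyRes h p) :=
  Subtype.ext (D.ev_res h p)

theorem evA_surjective {U : S.Opens} (hU : IsAffineOpen U) : Function.Surjective (D.evA U) := by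
  rintro ⟨s, hs⟩
  have h1 : ∀ x : U, ∃ r : Γ(S, U), (x : S) ∈ S.basicOpen r ∧
      ∃ q, D.ev (S.basicOpen r) q = D.ares (S.basicOpen_le r) s := by
    rintro ⟨x, hx⟩
    obtain ⟨V, hV, hle, hxV, p, hp⟩ := hs x hx
    obtain ⟨r, hr, hxr⟩ := hU.exists_basicOpen_le (V := V) ⟨x, hxV⟩ hx
    refine ⟨r, hxr, polyRes hr p, ?_⟩
    rw [← ev_res, hp, ares_ares]
  choose r hxr q hq using h1
  obtain ⟨F, hF⟩ := hU.isCompact.elim_finite_subcover (fun x => (S.basicOpen (r x) : Set S))
    (fun x => (S.basicOpen (r x)).2) fun x hx => Set.mem_iUnion.2 ⟨⟨x, hx⟩, hxr ⟨x, hx⟩⟩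
  -- `s` is bounded
  let n := F.sup fun x => (q x).totalDegree + 1
  have hn : D.Bounded n s := by
    intro i d hd
    refine X.sheaf.eq_of_locally_eq' (fun x : F => D.piece i (S.basicOpen (r x))) (D.piece i U)
      (fun x => homOfLE (D.piece_mono i (S.basicOpen_le _))) (fun y hy => ?_) _ _ fun x => ?_
    · obtain ⟨x, hx, hyx⟩ := Set.mem_iUnion₂.1 (hF hy.2)
      exact Opens.mem_iSup.2 ⟨⟨x, hx⟩, hy.1, hyx⟩
    · have e := congrArg (fun z => PowerSeries.coeff d (z i)) (hq x)
      simp only [coeff_ares] at e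
      rw [D.bounded_ev (q x) i d ((Finset.le_sup (f := fun x => (q x).totalDegree + 1) x.2).trans hd)] at e
      exact e.symm.trans (map_zero _).symm
  let J : Ideal Γ(S, U) :=
    { carrier := {a | ∃ p, D.ev U p = D.ev U (C a) * s}
      zero_mem' := ⟨0, by simp⟩
      add_mem' := by rintro a b ⟨p, hp⟩ ⟨p', hp'⟩; exact ⟨p + p', by rw [map_add, hp, hp', map_add, map_add, add_mul]⟩
      smul_mem' := by
        rintro a b ⟨p, hp⟩
        exact ⟨C a * p, by rw [map_mul, hp, smul_eq_mul, map_mul, map_mul, mul_assoc]⟩ }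
  suffices hJ : J = ⊤ by
    obtain ⟨p, hp⟩ := (J.eq_top_iff_one).1 hJ
    exact ⟨p, Subtype.ext (by simpa using hp)⟩
  have hrad : ∀ x : U, r x ∈ J.radical := fun x => by
    obtain ⟨m, p, hp⟩ := exists_polyRes_eq hU (r x) (q x)
    have hB : D.Bounded (max n (p.totalDegree + 1)) (D.ev U (C (r x ^ m)) * s - D.ev U p) := by
      intro i d hd
      rw [Pi.sub_apply, map_sub, D.bounded_ev p i d (le_of_max_le_right hd), sub_zero, Pi.mul_apply, ev_C,
        PowerSeries.coeff_C_mul, hn i d (le_of_max_le_left hd), mul_zero]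
    obtain ⟨m', hm'⟩ := D.exists_pow_kill hU (r x) _ hB (by
      rw [map_sub, map_mul, ev_res, ev_res, ← hq x, hp, map_mul, map_pow, ← map_pow C, map_pow]
      simp [map_pow])
    refine ⟨m' + m, C (r x ^ m') * p, ?_⟩
    rw [mul_sub, sub_eq_zero] at hm'
    rw [map_mul, map_pow C, map_pow, ← hm', pow_add, map_mul, map_pow C, map_mul, map_pow]
    simp only [map_pow]
    ring
  by_contra hne
  obtain ⟨M, hM, hJM⟩ := J.exists_le_maximal hne
  let P : PrimeSpectrum Γ(S, U) := ⟨M, hM.isPrime⟩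
  have hPU : hU.fromSpec P ∈ U := hU.range_fromSpec.le ⟨P, rfl⟩
  obtain ⟨x, hx, hPx⟩ := Set.mem_iUnion₂.1 (hF hPU)
  have hP : P ∈ hU.fromSpec ⁻¹ᵁ S.basicOpen (r x) := hPx
  rw [hU.fromSpec_preimage_basicOpen] at hP
  exact hP (hM.isPrime.radical_le_iff.2 hJM (hrad x))

/-- The structure map. -/
def str : S.presheaf ⟶ D.presheaf where
  app W := CommRingCat.ofHom ((D.evA W.unop).comp MvPolynomial.C)
  naturality W W' i := by
    ext r
    exact ((D.sres_evA i.unop.le (C r)).trans (by
      rw [polyRes, map_C, show (homOfLE i.unop.le).op = i from Subsingleton.elim _ _]; rfl)).symm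

theorem str_app_apply (W : S.Opens) (r : Γ(S, W)) : (D.str.app (op W)).hom r = D.evA W (C r) := rfl

theorem isQC : RelSpec.IsQC D.presheaf D.str := by
  intro U hU r
  let := (D.presheaf.map (homOfLE (S.basicOpen_le r)).op).hom.toAlgebra
  refine IsLocalization.Away.mk (r := (D.str.app (op U)).hom r) ?_ ?_ ?_
  · show IsUnit (D.sres (S.basicOpen_le r) (D.evA U (C r)))
    rw [sres_evA, polyRes, map_C]
    exact (RingedSpace.isUnit_res_basicOpen _ r).map ((D.evA (S.basicOpen r)).comp MvPolynomial.C)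
  · intro s
    obtain ⟨q, rfl⟩ := D.evA_surjective (hU.basicOpen r) s
    obtain ⟨m, p, hp⟩ := exists_polyRes_eq hU r q
    refine ⟨m, D.evA U p, ?_⟩
    show D.evA (S.basicOpen r) q * D.sres _ (D.evA U (C r)) ^ m = D.sres _ (D.evA U p)
    rw [← map_pow, ← map_pow, sres_evA, sres_evA, hp, map_mul, mul_comm]
    rfl
  · intro (a : D.sect U) (b : D.sect U) hab
    obtain ⟨p, hp⟩ := D.evA_surjective hU (a - b)
    have h0 : D.ares (S.basicOpen_le r) (D.ev U p) = 0 := by
      have e : D.sres (S.basicOpen_le r) (a - b) = 0 := by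
        exact (map_sub (D.sres _) a b).trans (sub_eq_zero.2 hab)
      rw [← hp] at e
      exact congrArg Subtype.val e
    obtain ⟨m, hm⟩ := D.exists_pow_kill hU r _ (D.bounded_ev p) h0
    refine ⟨m, ?_⟩
    show D.evA U (C r) ^ m * a = D.evA U (C r) ^ m * b
    rw [← sub_eq_zero, ← mul_sub, ← hp]
    exact Subtype.ext (by simpa using hm)

/-- The degree-`d` part. -/
def deg (W : S.Opens) (d : ℕ) : AddSubgroup (D.sect W) where
  carrier := {s | ∀ i e, e ≠ d → PowerSeries.coeff e ((s : D.Amb W) i) = 0}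
  zero_mem' := fun i e _ => by simp
  add_mem' {s t} hs ht i e he := by simp [hs i e he, ht i e he]
  neg_mem' {s} hs i e he := by simp [hs i e he]

theorem evA_mem_deg (W : S.Opens) {d : ℕ} {p : MvPolynomial (Fin (N + 1)) Γ(S, W)} (hp : p.IsHomogeneous d) :
    D.evA W p ∈ D.deg W d := fun i e he => by
  rw [evA_coe, D.ev_of_isHomogeneous W hp, PowerSeries.coeff_X_pow_mul']
  split_ifs with h
  · rw [PowerSeries.coeff_C, if_neg (by omega)]
  · rfl

theorem evA_homogeneousComponent (W : S.Opens) {d : ℕ} {p : MvPolynomial (Fin (N + 1)) Γ(S, W)}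
    (h : D.evA W p ∈ D.deg W d) : D.evA W (homogeneousComponent d p) = D.evA W p := by
  refine Subtype.ext (funext fun i => PowerSeries.ext fun e => ?_)
  by_cases he : e = d
  · subst he
    simp only [evA_coe, coeff_ev]
    rw [homogeneousComponent_of_mem (homogeneousComponent_mem e p), if_pos rfl]
  · rw [h i e he]
    exact D.evA_mem_deg W (homogeneousComponent_isHomogeneous d p) i e he

instance gradedMonoid (W : S.Opens) : SetLike.GradedMonoid (D.deg W) where
  one_mem i e he := by simp [PowerSeries.coeff_one, he]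
  mul_mem d d' s t hs ht i e he := by
    rw [Subring.coe_mul, Pi.mul_apply, PowerSeries.coeff_mul]
    refine Finset.sum_eq_zero fun x hx => ?_
    rw [Finset.HasAntidiagonal.mem_antidiagonal] at hx
    by_cases h1 : x.1 = d
    · rw [ht i x.2 (by omega), mul_zero]
    · rw [hs i x.1 h1, zero_mul]

theorem isInternal {U : S.Opens} (hU : IsAffineOpen U) : DirectSum.IsInternal (D.deg U) := by
  classical
  have key : ∀ (z : DirectSum ℕ fun d => D.deg U d) (i : Fin (N + 1)) (e : ℕ),
      PowerSeries.coeff e ((DirectSum.coeAddMonoidHom (D.deg U) z : D.Amb U) i) =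
        PowerSeries.coeff e (((z e : D.sect U) : D.Amb U) i) := by
    intro z i e
    induction z using DirectSum.induction_on with
    | zero => simp
    | of k a =>
      rw [DirectSum.coeAddMonoidHom_of]
      by_cases hk : k = e
      · subst hk; rw [DirectSum.of_eq_same]
      · rw [DirectSum.of_eq_of_ne _ _ _ (Ne.symm hk), a.2 i e (Ne.symm hk)]
        simp
    | add a b ha hb =>
      simp only [map_add, DirectSum.add_apply, AddMemClass.coe_add, Subring.coe_add, Pi.add_apply, ha, hb]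
  refine ⟨fun z z' h => ?_, fun s => ?_⟩
  · refine DFinsupp.ext fun e => Subtype.ext (Subtype.ext (funext fun i => PowerSeries.ext fun e' => ?_))
    by_cases he : e' = e
    · subst he
      rw [← key z i e', ← key z' i e', h]
    · rw [(z e).2 i e' he, (z' e).2 i e' he]
  · obtain ⟨p, rfl⟩ := D.evA_surjective hU s
    refine ⟨∑ k ∈ Finset.range (p.totalDegree + 1),
      DirectSum.of (fun d => D.deg U d) k ⟨_, D.evA_mem_deg U (homogeneousComponent_isHomogeneous k p)⟩, ?_⟩
    conv_rhs => rw [← sum_homogeneousComponent p]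
    simp [map_sum]

/-- The graded algebra. -/
def alg : RelProj.QCGrAlg S where
  presheaf := D.presheaf
  isSheaf := D.isSheaf_presheaf
  str := D.str
  isQC := D.isQC
  deg U _ := D.deg U
  graded U hU :=
    { D.gradedMonoid U, (D.isInternal hU).chooseDecomposition (D.deg U) with }
  map_mem {U V} _ _ i {d x} hx j e he := by
    refine (D.coeff_ares i x.1 j e).trans ?_
    rw [hx j e he, map_zero]
  str_mem U _ r := D.evA_mem_deg U (isHomogeneous_C _ r)

theorem isGenDegOne : D.alg.IsGenDegOne := by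
  intro U hU
  rw [eq_top_iff]
  intro s hs
  clear hs
  obtain ⟨p, rfl⟩ := D.evA_surjective hU s
  induction p using MvPolynomial.induction_on with
  | C a => exact Subring.subset_closure (Or.inl (D.evA_mem_deg U (isHomogeneous_C _ a)))
  | add p q hp hq => rw [map_add]; exact add_mem hp hq
  | mul_X p j hp =>
    rw [map_mul]
    exact mul_mem hp (Subring.subset_closure (Or.inr (D.evA_mem_deg U (isHomogeneous_X _ j))))

theorem isFTDeg_one : D.alg.IsFTDeg 1 := by
  classical
  intro U hU
  refine ⟨Finset.univ.image fun j => D.evA U (MvPolynomial.X j), ?_, fun x hx => ?_⟩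
  · intro t ht
    obtain ⟨j, -, rfl⟩ := Finset.mem_image.1 ht
    exact D.evA_mem_deg U (isHomogeneous_X _ j)
  · obtain ⟨p, rfl⟩ := D.evA_surjective hU x
    let a : Fin (N + 1) → Γ(S, U) := fun j => coeff (Finsupp.single j 1) p
    refine ⟨fun t => ∑ j ∈ Finset.univ.filter (fun j => D.evA U (MvPolynomial.X j) = t), a j, ?_⟩
    show D.evA U p = ∑ t ∈ _, D.evA U (C _) * t
    rw [← D.evA_homogeneousComponent U hx]
    have hlin : homogeneousComponent 1 p = ∑ j, C (a j) * MvPolynomial.X j := by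
      ext m
      rw [coeff_homogeneousComponent, coeff_sum]
      by_cases hm : m.degree = 1
      · obtain ⟨j, rfl⟩ : ∃ j, Finsupp.single j 1 = m := by
          obtain ⟨j, hj⟩ := Finsupp.range_single_one.ge (show m ∈ {d : Fin (N + 1) →₀ ℕ | d.degree = 1} from hm)
          exact ⟨j, hj⟩
        rw [if_pos hm, Finset.sum_eq_single j]
        · simp [a]
        · intro k _ hk
          simp [coeff_C_mul, coeff_X', Finsupp.single_left_inj one_ne_zero, hk]
        · simp
      · rw [if_neg hm]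
        refine (Finset.sum_eq_zero fun k _ => ?_).symm
        rw [coeff_C_mul, coeff_X', if_neg, mul_zero]
        rintro rfl
        exact hm (Finsupp.degree_single _ _)
    rw [hlin, map_sum, ← Finset.sum_fiberwise_of_maps_to (g := fun j => D.evA U (MvPolynomial.X j))
      (fun j hj => Finset.mem_image_of_mem (fun j => D.evA U (MvPolynomial.X j)) hj)]
    have step : ∀ t : D.sect U, ∑ j ∈ Finset.univ.filter (fun j => D.evA U (MvPolynomial.X j) = t),
        D.evA U (C (a j) * MvPolynomial.X j) =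
        D.evA U (C (∑ j ∈ Finset.univ.filter (fun j => D.evA U (MvPolynomial.X j) = t), a j)) * t := fun t => by
      rw [map_sum, map_sum, Finset.sum_mul]
      refine Finset.sum_congr rfl fun j hj => ?_
      rw [map_mul, (Finset.mem_filter.1 hj).2]
    refine Finset.sum_congr ?_ fun t _ => ?_
    · congr!
    · convert step t

end Groth.Agent.Lib.HProj.Data
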