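import Groth.Agent.Lib.HProj.Pt
import Groth.Agent.Lib.HProj.Alg
import Mathlib.AlgebraicGeometry.Morphisms.IsIso
import Mathlib.RingTheory.MvPolynomial.Ideal

/-!
# The relative Proj of the algebra of a closed subscheme of projective space

Over an affine open `U` the pieces of `X` are the standard charts of `Proj`; the charts glue to `f⁻¹U ≅ Proj`.
-/

noncomputable section

universe u

open CategoryTheory AlgebraicGeometry TopologicalSpace MvPolynomial Opposite HomogeneousLocalization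

namespace Groth.Agent.Lib.HProj.Data

variable {X S : Scheme.{u}} {f : X ⟶ S} {N : ℕ} (D : Data f N)

theorem topIso_inv_homOfLE {Y : Scheme.{u}} {A B : Y.Opens} (h : B ≤ A) :
    A.topIso.inv ≫ (Y.homOfLE h).appTop = Y.presheaf.map (homOfLE h).op ≫ B.topIso.inv := by
  simp only [Scheme.homOfLE_appTop, Scheme.Opens.topIso_inv, Category.assoc, eqToHom_op, ← Functor.map_comp]
  refine ((Functor.map_comp _ _ _).symm.trans ?_).trans (Functor.map_comp _ _ _)
  exact congrArg Y.presheaf.map (Subsingleton.elim _ _)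

theorem coordAt_self (i : Fin (N + 1)) (W : S.Opens) : D.coordAt i W i = 1 := by
  rw [coordAt, D.u_self, map_one]

theorem eval1_eq_sum (W : S.Opens) (p : MvPolynomial (Fin (N + 1)) Γ(S, W)) (i : Fin (N + 1)) :
    D.eval1 i W p = ∑ d ∈ Finset.range (p.totalDegree + 1), PowerSeries.coeff d (D.ev W p i) := by
  conv_lhs => rw [← sum_homogeneousComponent p]
  simp [map_sum, coeff_ev]

theorem ker_evA_le (W : S.Opens) (i : Fin (N + 1)) : RingHom.ker (D.evA W) ≤ RingHom.ker (D.eval1 i W) := by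
  intro p hp
  have h : D.ev W p = 0 := congrArg Subtype.val (show D.evA W p = 0 from hp)
  show D.eval1 i W p = 0
  simp [eval1_eq_sum, h]

/-- The `i`-th coordinate ring map at `t = 1`. -/
def phi {U : S.Opens} (hU : IsAffineOpen U) (i : Fin (N + 1)) : D.sect U →+* Γ(X, D.piece i U) :=
  (D.evA U).liftOfSurjective (D.evA_surjective hU) ⟨D.eval1 i U, D.ker_evA_le U i⟩

theorem phi_evA {U : S.Opens} (hU : IsAffineOpen U) (i : Fin (N + 1))
    (p : MvPolynomial (Fin (N + 1)) Γ(S, U)) : D.phi hU i (D.evA U p) = D.eval1 i U p :=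
  RingHom.liftOfRightInverse_comp_apply _ _ _ _ _

theorem coeff_eq_phi {U : S.Opens} (hU : IsAffineOpen U) (i : Fin (N + 1)) {d : ℕ} {s : D.sect U}
    (hs : s ∈ D.deg U d) : PowerSeries.coeff d ((s : D.Amb U) i) = D.phi hU i s := by
  obtain ⟨p, rfl⟩ := D.evA_surjective hU s
  rw [← D.evA_homogeneousComponent U hs, phi_evA, evA_coe,
    D.ev_of_isHomogeneous U (homogeneousComponent_isHomogeneous d p), PowerSeries.coeff_X_pow_mul',
    if_pos le_rfl, Nat.sub_self, PowerSeries.coeff_zero_C]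

/-- The element of degree one of a coordinate. -/
def coordA (U : S.Opens) (j : Fin (N + 1)) : D.sect U := D.evA U (MvPolynomial.X j)

theorem coordA_mem (U : S.Opens) (j : Fin (N + 1)) : D.coordA U j ∈ D.deg U 1 :=
  D.evA_mem_deg U (isHomogeneous_X _ j)

theorem phi_coordA {U : S.Opens} (hU : IsAffineOpen U) (i j : Fin (N + 1)) :
    D.phi hU i (D.coordA U j) = D.coordAt i U j := by
  simp [coordA, phi_evA, eval1]

theorem piece_inf (i k : Fin (N + 1)) (U : S.Opens) :
    D.piece i U ⊓ D.piece k U = X.basicOpen (D.coordAt i U k) := by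
  rw [coordAt, Scheme.basicOpen_res, D.basicOpen_u]
  simp only [piece]
  ext x
  simp only [Opens.mem_inf, SetLike.mem_coe, Opens.coe_inf, Set.mem_inter_iff]
  tauto

theorem phi_res {U : S.Opens} (hU : IsAffineOpen U) (i k : Fin (N + 1)) (W : X.Opens) (hi : W ≤ D.piece i U)
    (hk : W ≤ D.piece k U) {d : ℕ} {s : D.sect U} (hs : s ∈ D.deg U d) :
    X.presheaf.map (homOfLE hk).op (D.phi hU k s) =
      X.presheaf.map (homOfLE hk).op (D.coordAt k U i) ^ d * X.presheaf.map (homOfLE hi).op (D.phi hU i s) := by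
  obtain ⟨p, rfl⟩ := D.evA_surjective hU s
  rw [← D.evA_homogeneousComponent U hs]
  simp only [phi_evA, eval1]
  generalize homogeneousComponent_isHomogeneous d p = hp
  generalize homogeneousComponent d p = q at hp ⊢
  let g : Γ(S, U) →+* Γ(X, W) := (f.appLE U W (hi.trans inf_le_right)).hom
  have hres : ∀ (l : Fin (N + 1)) (hl : W ≤ D.piece l U),
      (X.presheaf.map (homOfLE hl).op).hom.comp (eval₂Hom (D.base l U) (D.coordAt l U)) =
        eval₂Hom g fun j => X.presheaf.map (homOfLE hl).op (D.coordAt l U j) := by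
    intro l hl
    apply MvPolynomial.ringHom_ext
    · intro r
      simp only [RingHom.comp_apply, eval₂Hom_C, base, g]
      rw [← CommRingCat.comp_apply, Scheme.Hom.appLE_map]
    · intro j; simp
  have e1 := DFunLike.congr_fun (hres k hk) q
  have e2 := DFunLike.congr_fun (hres i hi) q
  simp only [RingHom.comp_apply] at e1 e2
  refine e1.trans ?_
  have hrel : (fun j => X.presheaf.map (homOfLE hk).op (D.coordAt k U j)) =
      fun j => X.presheaf.map (homOfLE hk).op (D.coordAt k U i) * X.presheaf.map (homOfLE hi).op (D.coordAt i U j) :=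
    funext fun j => by
      have := D.rel i k j W (hi.trans inf_le_left) (hk.trans inf_le_left)
      simp only [coordAt, ← CommRingCat.comp_apply, ← Functor.map_comp]
      exact this
  rw [hrel, ProjSpace.Charts.eval₂Hom_mul_of_isHomogeneous _ _ _ hp, e2]

theorem pres_phi {U U' : S.Opens} (hU : IsAffineOpen U) (hU' : IsAffineOpen U') (h : U' ≤ U) (i : Fin (N + 1))
    (s : D.sect U) : D.pres i h (D.phi hU i s) = D.phi hU' i (D.sres h s) := by
  obtain ⟨p, rfl⟩ := D.evA_surjective hU s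
  rw [sres_evA, phi_evA, phi_evA]
  have : (D.pres i h).comp (D.eval1 i U) = (D.eval1 i U').comp (polyRes h) := by
    apply MvPolynomial.ringHom_ext
    · intro r; simp [eval1, polyRes, D.base_res i h r]
    · intro j; simp [eval1, polyRes, D.coordAt_res i h j]
  exact DFunLike.congr_fun this p

/-- The grading over an affine open, remembering that it is affine. -/
def degA (U : S.Opens) (_ : IsAffineOpen U) : ℕ → AddSubgroup (D.sect U) := D.deg U

instance gradedRing_degA (U : S.Opens) (hU : IsAffineOpen U) : GradedRing (D.degA U hU) := D.alg.graded U hU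

section chart

variable {U : S.Opens} (hU : IsAffineOpen U)

local notation "𝒜" => D.degA U hU

theorem coordA_memA (i : Fin (N + 1)) : D.coordA U i ∈ D.degA U hU 1 := D.coordA_mem U i

theorem isUnit_phi_coordA (i : Fin (N + 1)) : IsUnit (D.phi hU i (D.coordA U i)) := by
  rw [phi_coordA, coordAt_self]; exact isUnit_one

theorem awayHom_bijective (i : Fin (N + 1)) :
    Function.Bijective (Pt.awayHom 𝒜 (D.coordA U i) (D.phi hU i) (D.isUnit_phi_coordA hU i)) := by
  classical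
  have hone : D.phi hU i (D.coordA U i) = 1 := by rw [phi_coordA, coordAt_self]
  constructor
  · rw [injective_iff_map_eq_zero]
    intro z hz
    obtain ⟨d, a, ha, rfl⟩ := Away.mk_surjective 𝒜 (D.coordA_mem U i) z
    have hd : d • 1 = d := by simp
    have h0 : D.phi hU i a = 0 := by
      have := Pt.awayHom_mk_mul 𝒜 (D.coordA_mem U i) (D.phi hU i) (D.isUnit_phi_coordA hU i) d ha
      rw [hz, mul_zero] at this
      exact this.symm
    have ha' : a ∈ D.deg U d := hd ▸ ha
    have key : ∀ k, ∃ m : ℕ, D.coordAt k U i ^ m * D.phi hU k a = 0 := by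
      intro k
      let W := X.basicOpen (D.coordAt k U i)
      have hWk : W ≤ D.piece k U := X.basicOpen_le _
      have hWi : W ≤ D.piece i U := (D.piece_inf k i U).ge.trans inf_le_right
      let := (X.presheaf.map (homOfLE hWk).op).hom.toAlgebra
      haveI : IsLocalization.Away (D.coordAt k U i) Γ(X, W) :=
        (D.affine U hU k).isLocalization_basicOpen (D.coordAt k U i)
      obtain ⟨⟨_, m, rfl⟩, hm⟩ := (IsLocalization.map_eq_zero_iff (Submonoid.powers (D.coordAt k U i))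
        Γ(X, W) (D.phi hU k a)).1 (by
          refine (D.phi_res hU i k W hWi hWk ha').trans ?_
          rw [h0, map_zero, mul_zero])
      exact ⟨m, hm⟩
    choose m hm using key
    let M := Finset.univ.sup m
    have hz' : D.coordA U i ^ M * a = 0 := by
      have hmem : D.coordA U i ^ M * a ∈ D.deg U (M + d) := by
        have := SetLike.mul_mem_graded (A := D.deg U) (SetLike.pow_mem_graded M (D.coordA_mem U i)) ha'
        simpa using this
      refine Subtype.ext (funext fun k => PowerSeries.ext fun e => ?_)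
      by_cases he : e = M + d
      · subst he
        rw [D.coeff_eq_phi hU k hmem, map_mul, map_pow, phi_coordA]
        obtain ⟨c, hc⟩ := Nat.exists_eq_add_of_le (Finset.le_sup (f := m) (Finset.mem_univ k))
        rw [show M = m k + c from hc, pow_add, mul_right_comm, hm k, zero_mul]
        simp
      · rw [hmem k e he]
        simp
    apply HomogeneousLocalization.val_injective
    rw [Away.val_mk, HomogeneousLocalization.val_zero, Localization.mk_eq_mk', IsLocalization.mk'_eq_zero_iff]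
    exact ⟨⟨_, M, rfl⟩, hz'⟩
  · intro b
    have hb : b ∈ Subring.closure (Set.range (f.appLE U (D.piece i U) inf_le_right) ∪
        Set.range fun j => D.coordAt i U j) := (D.gen U hU i).ge (Subring.mem_top b)
    show b ∈ (Pt.awayHom 𝒜 (D.coordA U i) (D.phi hU i) (D.isUnit_phi_coordA hU i)).range
    refine Subring.closure_le.2 ?_ hb
    rintro _ (⟨r, rfl⟩ | ⟨j, rfl⟩)
    · refine ⟨Away.mk 𝒜 (D.coordA_mem U i) 0 (D.evA U (C r))
        (by show _ ∈ D.deg U _; simpa using D.evA_mem_deg U (isHomogeneous_C _ r)), ?_⟩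
      rw [Pt.awayHom_eq_iff, pow_zero, one_mul, phi_evA]
      simp [eval1, base]
    · refine ⟨Away.mk 𝒜 (D.coordA_mem U i) 1 (D.coordA U j) (by show _ ∈ D.deg U _; simpa using D.coordA_mem U j), ?_⟩
      rw [Pt.awayHom_eq_iff, pow_one, hone, one_mul, phi_coordA]

/-- The coordinate ring map into global sections of the piece. -/
def phiTop (i : Fin (N + 1)) : D.sect U →+* Γ((D.piece i U : Scheme.{u}), ⊤) :=
  (D.piece i U).topIso.inv.hom.comp (D.phi hU i)

theorem isUnit_phiTop (i : Fin (N + 1)) : IsUnit (D.phiTop hU i (D.coordA U i)) :=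
  (D.isUnit_phi_coordA hU i).map (D.piece i U).topIso.inv.hom

/-- The chart map of a piece. -/
def piecePt (i : Fin (N + 1)) : (D.piece i U : Scheme.{u}) ⟶ Proj 𝒜 :=
  Pt.pt 𝒜 (D.coordA U i) (D.coordA_memA hU i) (D.phiTop hU i) (D.isUnit_phiTop hU i)

theorem isOpenImmersion_piecePt (i : Fin (N + 1)) :
    IsOpenImmersion (D.piecePt hU i) ∧
      Set.range (D.piecePt hU i) = Proj.basicOpen 𝒜 (D.coordA U i) := by
  haveI : IsAffine (D.piece i U : Scheme.{u}) := D.affine U hU i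
  refine Pt.isOpenImmersion_pt 𝒜 _ _ _ ?_
  have h : Pt.awayHom 𝒜 (D.coordA U i) (D.phiTop hU i) (D.isUnit_phiTop hU i) =
      (D.piece i U).topIso.inv.hom.comp (Pt.awayHom 𝒜 _ (D.phi hU i) (D.isUnit_phi_coordA hU i)) :=
    (Pt.awayHom_comp 𝒜 _ _ _ _).symm
  rw [h]
  exact (ConcreteCategory.bijective_of_isIso (D.piece i U).topIso.inv).comp (D.awayHom_bijective hU i)

theorem piecePt_preimage (i k : Fin (N + 1)) :
    D.piecePt hU i ⁻¹ᵁ Proj.basicOpen 𝒜 (D.coordA U k) = (D.piece i U).ι ⁻¹ᵁ D.piece k U := by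
  rw [piecePt, Pt.pt_preimage_basicOpen 𝒜 _ (D.coordA_mem U k)]
  apply (D.piece i U).ι.image_injective
  show _ ''ᵁ _ = _ ''ᵁ _
  rw [Scheme.Hom.image_preimage_eq_opensRange_inf, Scheme.Opens.opensRange_ι, Scheme.image_basicOpen]
  simp only [phiTop, RingHom.comp_apply, phi_coordA]
  rw [D.piece_inf]
  simp
  exact X.basicOpen_res_eq _ _

theorem homOfLE_piecePt (i k : Fin (N + 1)) (W : X.Opens) (hi : W ≤ D.piece i U) (hk : W ≤ D.piece k U) :
    X.homOfLE hi ≫ D.piecePt hU i = X.homOfLE hk ≫ D.piecePt hU k := by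
  rw [piecePt, piecePt, Pt.comp_pt, Pt.comp_pt]
  have hW : ∀ (l : Fin (N + 1)) (hl : W ≤ D.piece l U) (s : D.sect U),
      (X.homOfLE hl).appTop (D.phiTop hU l s) =
        W.topIso.inv (X.presheaf.map (homOfLE hl).op (D.phi hU l s)) := by
    intro l hl s
    simp only [phiTop, RingHom.comp_apply]
    rw [← CommRingCat.comp_apply, ← CommRingCat.comp_apply]
    exact congrArg (fun m => m.hom (D.phi hU l s)) (topIso_inv_homOfLE hl)
  have hunit : IsUnit (W.topIso.inv (X.presheaf.map (homOfLE hk).op (D.coordAt k U i))) := by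
    refine IsUnit.map W.topIso.inv.hom ?_
    have h2 := D.phi_res hU k i W hk hi (D.coordA_mem U i)
    simp only [phi_coordA, coordAt_self, map_one, pow_one] at h2
    exact IsUnit.of_mul_eq_one_right _ h2.symm
  have huik : IsUnit ((X.homOfLE hk).appTop (D.phiTop hU k (D.coordA U i))) := by
    rw [hW, phi_coordA]; exact hunit
  refine Eq.trans ?_ (Pt.pt_indep 𝒜 (D.coordA_mem U i) (D.coordA_mem U k)
    ((X.homOfLE hk).appTop.hom.comp (D.phiTop hU k)) huik _)
  symm
  refine Pt.pt_scale 𝒜 _ _ _ (W.topIso.inv (X.presheaf.map (homOfLE hk).op (D.coordAt k U i)))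
    fun d a ha => ?_
  show (X.homOfLE hk).appTop (D.phiTop hU k a) = _ ^ d * (X.homOfLE hi).appTop (D.phiTop hU i a)
  rw [hW, hW, D.phi_res hU i k W hi hk ha, map_mul, map_pow]

theorem isOpenCover_piece : TopologicalSpace.IsOpenCover
    (fun i => (f ⁻¹ᵁ U).ι ⁻¹ᵁ D.piece i U : Fin (N + 1) → ((f ⁻¹ᵁ U : X.Opens) : Scheme.{u}).Opens) := by
  refine top_le_iff.1 fun x _ => ?_
  obtain ⟨i, hi⟩ := Opens.mem_iSup.1 (D.cover.ge (Opens.mem_top ((f ⁻¹ᵁ U).ι x)))
  exact Opens.mem_iSup.2 ⟨i, hi, x.2⟩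

theorem exists_chart : ∃ e : ((f ⁻¹ᵁ U : X.Opens) : Scheme.{u}) ≅ Proj 𝒜,
    ∀ i, X.homOfLE (inf_le_right : D.piece i U ≤ f ⁻¹ᵁ U) ≫ e.hom = D.piecePt hU i := by
  let Y : Scheme.{u} := (f ⁻¹ᵁ U : X.Opens)
  let P : Fin (N + 1) → Y.Opens := fun i => (f ⁻¹ᵁ U).ι ⁻¹ᵁ D.piece i U
  let 𝒰 := Y.openCoverOfIsOpenCover P (D.isOpenCover_piece)
  have hle : ∀ i, Set.range ((P i).ι ≫ (f ⁻¹ᵁ U).ι) ⊆ Set.range (D.piece i U).ι := fun i => by
    rw [Scheme.Opens.range_ι]; rintro _ ⟨y, rfl⟩; exact y.2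
  let a : ∀ i, (P i : Scheme.{u}) ⟶ (D.piece i U : Scheme.{u}) := fun i =>
    IsOpenImmersion.lift (D.piece i U).ι ((P i).ι ≫ (f ⁻¹ᵁ U).ι) (hle i)
  have ha : ∀ i, a i ≫ (D.piece i U).ι = (P i).ι ≫ (f ⁻¹ᵁ U).ι := fun i => IsOpenImmersion.lift_fac _ _ (hle i)
  let g : ∀ i, 𝒰.X i ⟶ Proj 𝒜 := fun i => a i ≫ D.piecePt hU i
  have hglue : ∀ i k, Limits.pullback.fst (𝒰.f i) (𝒰.f k) ≫ g i = Limits.pullback.snd (𝒰.f i) (𝒰.f k) ≫ g k := by
    intro i k
    let W : X.Opens := D.piece i U ⊓ D.piece k U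
    let c : Limits.pullback (𝒰.f i) (𝒰.f k) ⟶ X := Limits.pullback.fst (𝒰.f i) (𝒰.f k) ≫ (P i).ι ≫ (f ⁻¹ᵁ U).ι
    have hc : c = Limits.pullback.snd (𝒰.f i) (𝒰.f k) ≫ (P k).ι ≫ (f ⁻¹ᵁ U).ι :=
      Limits.pullback.condition_assoc _
    have hr : Set.range c ⊆ Set.range W.ι := by
      rw [Scheme.Opens.range_ι]
      rintro _ ⟨y, rfl⟩
      refine ⟨(Limits.pullback.fst (𝒰.f i) (𝒰.f k) y).2, ?_⟩
      rw [hc]
      exact (Limits.pullback.snd (𝒰.f i) (𝒰.f k) y).2
    let w := IsOpenImmersion.lift W.ι c hr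
    have hw : w ≫ W.ι = c := IsOpenImmersion.lift_fac _ _ hr
    have e1 : Limits.pullback.fst (𝒰.f i) (𝒰.f k) ≫ a i = w ≫ X.homOfLE (inf_le_left : W ≤ D.piece i U) := by
      rw [← cancel_mono (D.piece i U).ι, Category.assoc, Category.assoc, Scheme.homOfLE_ι, hw]
      exact congrArg (Limits.pullback.fst (𝒰.f i) (𝒰.f k) ≫ ·) (ha i)
    have e2 : Limits.pullback.snd (𝒰.f i) (𝒰.f k) ≫ a k = w ≫ X.homOfLE (inf_le_right : W ≤ D.piece k U) := by
      rw [← cancel_mono (D.piece k U).ι, Category.assoc, Category.assoc, Scheme.homOfLE_ι, hw, hc]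
      exact congrArg (Limits.pullback.snd (𝒰.f i) (𝒰.f k) ≫ ·) (ha k)
    simp only [g]
    rw [reassoc_of% e1, reassoc_of% e2, D.homOfLE_piecePt hU i k W inf_le_left inf_le_right]
  let Φ : Y ⟶ Proj 𝒜 := 𝒰.glueMorphisms g hglue
  have hΦ : ∀ i, X.homOfLE (inf_le_right : D.piece i U ≤ f ⁻¹ᵁ U) ≫ Φ = D.piecePt hU i := by
    intro i
    have hr : Set.range (X.homOfLE (inf_le_right : D.piece i U ≤ f ⁻¹ᵁ U)) ⊆ Set.range (P i).ι := by
      rw [Scheme.Opens.range_ι]
      rintro _ ⟨y, rfl⟩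
      show (f ⁻¹ᵁ U).ι (X.homOfLE _ y) ∈ D.piece i U
      rw [← Scheme.Hom.comp_apply, Scheme.homOfLE_ι]
      exact y.2
    let b := IsOpenImmersion.lift (P i).ι _ hr
    have hb : b ≫ (P i).ι = X.homOfLE (inf_le_right : D.piece i U ≤ f ⁻¹ᵁ U) := IsOpenImmersion.lift_fac _ _ hr
    have hba : b ≫ a i = 𝟙 _ := by
      rw [← cancel_mono (D.piece i U).ι, Category.assoc, ha, reassoc_of% hb, Scheme.homOfLE_ι, Category.id_comp]
    rw [← hb, Category.assoc, show (P i).ι ≫ Φ = g i from 𝒰.ι_glueMorphisms g hglue i]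
    exact (Category.assoc _ _ _).symm.trans ((congrArg (· ≫ D.piecePt hU i) hba).trans (Category.id_comp _))
  have hpre : ∀ (i : Fin (N + 1)) (y : Y), Φ y ∈ Proj.basicOpen 𝒜 (D.coordA U i) ↔ (f ⁻¹ᵁ U).ι y ∈ D.piece i U := by
    intro i y
    obtain ⟨k, hk⟩ := Opens.mem_iSup.1 (D.isOpenCover_piece.ge (Opens.mem_top y))
    let y' : (D.piece k U : Scheme.{u}) := ⟨(f ⁻¹ᵁ U).ι y, hk⟩
    have hy : X.homOfLE (inf_le_right : D.piece k U ≤ f ⁻¹ᵁ U) y' = y := by
      apply (f ⁻¹ᵁ U).ι.isOpenEmbedding.injective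
      rw [← Scheme.Hom.comp_apply, Scheme.homOfLE_ι]
      rfl
    rw [← hy, ← Scheme.Hom.comp_apply, hΦ]
    have := SetLike.ext_iff.1 (D.piecePt_preimage hU k i) y'
    refine this.trans ?_
    rw [hy]
    rfl
  haveI : IsOpenImmersion Φ := by
    haveI : ∀ i, IsOpenImmersion (𝒰.f i ≫ Φ) := fun i => by
      rw [𝒰.ι_glueMorphisms]
      haveI := (D.isOpenImmersion_piecePt hU i).1
      haveI : IsOpenImmersion (a i) := by
        haveI : IsOpenImmersion (a i ≫ (D.piece i U).ι) := by rw [ha]; infer_instance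
        exact IsOpenImmersion.of_comp (a i) (D.piece i U).ι
      exact IsOpenImmersion.comp (a i) (D.piecePt hU i)
    refine IsOpenImmersion.of_openCover_source Φ 𝒰 ?_ fun i => inferInstance
    intro y y' hyy
    obtain ⟨k, hk⟩ := Opens.mem_iSup.1 (D.isOpenCover_piece.ge (Opens.mem_top y))
    have hk' : y' ∈ P k := (hpre k y').1 (hyy ▸ (hpre k y).2 hk)
    have h1 : 𝒰.f k ⟨y, hk⟩ = y := rfl
    have h2 : 𝒰.f k ⟨y', hk'⟩ = y' := rfl
    have h3 : (𝒰.f k ≫ Φ) ⟨y, hk⟩ = (𝒰.f k ≫ Φ) ⟨y', hk'⟩ := hyy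
    exact congrArg (𝒰.f k) ((𝒰.f k ≫ Φ).isOpenEmbedding.injective h3)
  haveI : Surjective Φ := by
    refine ⟨fun z => ?_⟩
    obtain ⟨j, hj⟩ : ∃ j, z ∈ Proj.basicOpen 𝒜 (D.coordA U j) := by
      by_contra hne
      simp only [not_exists, ProjectiveSpectrum.mem_basicOpen, not_not, Proj.basicOpen,
        SetLike.mem_coe] at hne
      refine z.not_irrelevant_le ?_
      rw [HomogeneousIdeal.irrelevant_le]
      intro d hd x hx
      obtain ⟨p, rfl⟩ := D.evA_surjective hU x
      rw [← D.evA_homogeneousComponent U hx]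
      have hspan : homogeneousComponent d p ∈
          Ideal.span ((MvPolynomial.X : Fin (N + 1) → MvPolynomial (Fin (N + 1)) Γ(S, U)) '' Set.univ) := by
        rw [MvPolynomial.mem_ideal_span_X_image]
        intro m hm
        have hmd : m.degree = d := by
          by_contra hne'
          rw [MvPolynomial.mem_support_iff, coeff_homogeneousComponent, if_neg hne'] at hm
          exact hm rfl
        obtain ⟨j, hj⟩ : ∃ j, m j ≠ 0 := by
          by_contra hz
          simp only [not_exists, not_not] at hz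
          have : m = 0 := Finsupp.ext hz
          rw [this, map_zero] at hmd
          omega
        exact ⟨j, Set.mem_univ _, hj⟩
      have hmap := Ideal.mem_map_of_mem (D.evA U) hspan
      rw [Ideal.map_span] at hmap
      refine (Ideal.span_le.2 ?_) hmap
      rintro _ ⟨_, ⟨j, -, rfl⟩, rfl⟩
      exact not_not.1 (fun hc => hne j hc)
    obtain ⟨y, hy⟩ : z ∈ Set.range (D.piecePt hU j) := by rw [(D.isOpenImmersion_piecePt hU j).2]; exact hj
    exact ⟨X.homOfLE (inf_le_right : D.piece j U ≤ f ⁻¹ᵁ U) y, by rw [← Scheme.Hom.comp_apply, hΦ, hy]⟩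
  haveI : IsIso Φ := (isIso_iff_isOpenImmersion_and_surjective Φ).2 ⟨inferInstance, inferInstance⟩
  exact ⟨asIso Φ, hΦ⟩

end chart

/-- The chart over an affine open. -/
def chart (U : S.Opens) (hU : IsAffineOpen U) :
    ((f ⁻¹ᵁ U : X.Opens) : Scheme.{u}) ≅ Proj (D.alg.deg U hU) :=
  (D.exists_chart hU).choose

theorem homOfLE_chart {U : S.Opens} (hU : IsAffineOpen U) (i : Fin (N + 1)) :
    X.homOfLE (inf_le_right : D.piece i U ≤ f ⁻¹ᵁ U) ≫ (D.chart U hU).hom = D.piecePt hU i :=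
  (D.exists_chart hU).choose_spec i

theorem hom_ext_piece {U : S.Opens} {Z : Scheme.{u}} {g g' : ((f ⁻¹ᵁ U : X.Opens) : Scheme.{u}) ⟶ Z}
    (h : ∀ i, X.homOfLE (inf_le_right : D.piece i U ≤ f ⁻¹ᵁ U) ≫ g =
      X.homOfLE (inf_le_right : D.piece i U ≤ f ⁻¹ᵁ U) ≫ g') : g = g' := by
  let Y : Scheme.{u} := (f ⁻¹ᵁ U : X.Opens)
  refine Scheme.Cover.hom_ext (Y.openCoverOfIsOpenCover _ D.isOpenCover_piece) _ _ fun (i : Fin (N + 1)) => ?_
  have hr : Set.range ((((f ⁻¹ᵁ U).ι ⁻¹ᵁ D.piece i U : Y.Opens)).ι ≫ (f ⁻¹ᵁ U).ι) ⊆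
      Set.range (D.piece i U).ι := by
    rw [Scheme.Opens.range_ι]; rintro _ ⟨y, rfl⟩; exact y.2
  let a := IsOpenImmersion.lift (D.piece i U).ι _ hr
  have ha : a ≫ X.homOfLE (inf_le_right : D.piece i U ≤ f ⁻¹ᵁ U) =
      ((f ⁻¹ᵁ U).ι ⁻¹ᵁ D.piece i U : Y.Opens).ι := by
    rw [← cancel_mono (f ⁻¹ᵁ U).ι, Category.assoc, Scheme.homOfLE_ι]
    exact IsOpenImmersion.lift_fac _ _ hr
  show ((f ⁻¹ᵁ U).ι ⁻¹ᵁ D.piece i U : Y.Opens).ι ≫ g = ((f ⁻¹ᵁ U).ι ⁻¹ᵁ D.piece i U : Y.Opens).ι ≫ g'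
  rw [← ha, Category.assoc, Category.assoc, h i]

theorem pt_congr {U : S.Opens} (hU : IsAffineOpen U) {T : Scheme.{u}} {s : D.sect U} (hs : s ∈ D.degA U hU 1)
    {φ φ' : D.sect U →+* Γ(T, ⊤)} (h : φ = φ') (hu : IsUnit (φ s)) (hu' : IsUnit (φ' s)) :
    Pt.pt (D.degA U hU) s hs φ hu = Pt.pt (D.degA U hU) s hs φ' hu' := by
  subst h; rfl

theorem isRelProj : RelProj.IsRelProj D.alg f D.chart where
  chart_over U hU := by
    refine D.hom_ext_piece fun i => ?_
    rw [← Category.assoc, D.homOfLE_chart hU i, Scheme.homOfLE_ι_assoc]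
    have h1 : D.piecePt hU i ≫ Proj.toSpecZero (D.degA U hU) =
        Chow.PointMap.toSpecHom ((D.phiTop hU i).comp (algebraMap (D.degA U hU 0) (D.sect U))) :=
      Pt.pt_toSpecZero _ _ _ _
    have h2 : Chow.PointMap.toSpecHom ((D.phiTop hU i).comp (algebraMap (D.degA U hU 0) (D.sect U))) ≫
        Spec.map (D.alg.strZero U hU) = (D.piece i U).toSpecΓ ≫ Spec.map (f.appLE U (D.piece i U) inf_le_right) := by
      refine (Chow.PointMap.toSpecHom_specMap _ (D.alg.strZero U hU).hom).trans ?_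
      show (D.piece i U : Scheme.{u}).toSpecΓ ≫ Spec.map _ =
        ((D.piece i U : Scheme.{u}).toSpecΓ ≫ Spec.map (D.piece i U).topIso.inv) ≫ _
      rw [Category.assoc, ← Spec.map_comp]
      congr 2
      refine CommRingCat.hom_ext (RingHom.ext fun r => ?_)
      show (D.piece i U).topIso.inv (D.phi hU i (D.evA U (C r))) =
        (D.piece i U).topIso.inv (f.appLE U (D.piece i U) inf_le_right r)
      rw [phi_evA]
      simp [eval1, base]
    refine ((congrArg (· ≫ Spec.map (D.alg.strZero U hU) ≫ hU.fromSpec) h1).trans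
      ((Category.assoc _ _ _).symm.trans (congrArg (· ≫ hU.fromSpec) h2))) |> fun e => ?_
    refine Eq.trans (Category.assoc _ _ _).symm (e.trans ?_)
    rw [Category.assoc]
    refine (Scheme.Opens.toSpecΓ_SpecMap_appLE_assoc _ _ _ _ _).trans ?_
    rw [IsAffineOpen.toSpecΓ_fromSpec, Scheme.Hom.resLE_comp_ι]
  chart_res U hU r := by
    refine D.hom_ext_piece fun i => ?_
    have hle : S.basicOpen r ≤ U := S.basicOpen_le r
    rw [Scheme.homOfLE_homOfLE_assoc, ← Category.assoc (X.homOfLE _) (D.chart _ _).hom,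
      D.homOfLE_chart (hU.basicOpen r) i]
    rw [← Scheme.homOfLE_homOfLE_assoc _ (D.piece_mono i hle) (inf_le_right : D.piece i U ≤ f ⁻¹ᵁ U),
      D.homOfLE_chart hU i, piecePt, piecePt]
    refine (Pt.comp_pt _ _ _ _ _).trans ?_
    let θ : D.degA U hU →+*ᵍ D.degA (S.basicOpen r) (hU.basicOpen r) := D.alg.res hU (hU.basicOpen r) hle
    have hθ : θ (D.coordA U i) = D.coordA (S.basicOpen r) i := by
      show D.sres hle (D.evA U (MvPolynomial.X i)) = _
      rw [sres_evA, polyRes, map_X]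
      rfl
    have hu2 : IsUnit (D.phiTop (hU.basicOpen r) i (θ (D.coordA U i))) := by
      rw [hθ]; exact D.isUnit_phiTop _ i
    have e1 := Pt.pt_indep (D.degA (S.basicOpen r) (hU.basicOpen r)) (D.coordA_mem (S.basicOpen r) i)
      (θ.map_mem (D.coordA_mem U i)) (D.phiTop (hU.basicOpen r) i) (D.isUnit_phiTop _ i) hu2
    have e2 := Pt.pt_map (D.degA U hU) (D.degA (S.basicOpen r) (hU.basicOpen r)) θ
      (D.alg.irrelevant_le_map U hU r) (D.coordA_mem U i) (D.phiTop (hU.basicOpen r) i) hu2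
    refine Eq.trans ?_ ((congrArg (· ≫ _) e1).trans e2).symm
    refine D.pt_congr hU _ (RingHom.ext fun s => ?_) _ _
    show (X.homOfLE (D.piece_mono i hle)).appTop ((D.piece i U).topIso.inv (D.phi hU i s)) =
      (D.piece i (S.basicOpen r)).topIso.inv (D.phi (hU.basicOpen r) i (D.sres hle s))
    rw [← D.pres_phi hU (hU.basicOpen r) hle i s, pres, ← CommRingCat.comp_apply, ← CommRingCat.comp_apply]
    exact DFunLike.congr_fun (congrArg CommRingCat.Hom.hom (topIso_inv_homOfLE _)) (D.phi hU i s)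

include D in
/-- A morphism with coordinate data is projective. -/
theorem isProjective : RelProj.IsProjective f :=
  ⟨D.alg, X, f, D.chart, Iso.refl X, D.isGenDegOne, D.isFTDeg_one, D.isRelProj, Category.id_comp f⟩

end Groth.Agent.Lib.HProj.Data
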