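import Groth.Agent.Lib.Chow.PointMap
import Mathlib.AlgebraicGeometry.ProjectiveSpectrum.Functor

/-!
# Points of `Proj` from ring maps

`pt 𝒜 s φ : T ⟶ Proj 𝒜` for `φ : A →+* Γ(T, ⊤)` sending the degree-one element `s` to a unit.
It does not depend on `s`, is invariant under rescaling of `φ`, and is natural in `T` and in `(A, 𝒜)`.
-/

noncomputable section

universe u

open CategoryTheory AlgebraicGeometry HomogeneousLocalization TopologicalSpace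
open scoped HomogeneousIdeal

namespace Groth.Agent.Lib.HProj.Pt

open Chow.PointMap

variable {A σ : Type u} [CommRing A] [SetLike σ A] [AddSubgroupClass σ A] (𝒜 : ℕ → σ) [GradedRing 𝒜]
variable {B : Type u} [CommRing B]

/-- The degree-zero part of the lift of `φ` to the localization at `s`. -/
def awayHom (s : A) (φ : A →+* B) (hu : IsUnit (φ s)) : HomogeneousLocalization.Away 𝒜 s →+* B :=
  (Localization.awayLift φ s hu).comp (algebraMap (HomogeneousLocalization.Away 𝒜 s) (Localization.Away s))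

theorem awayHom_mk_mul {s : A} (hs : s ∈ 𝒜 1) (φ : A →+* B) (hu : IsUnit (φ s)) (d : ℕ) {a : A}
    (ha : a ∈ 𝒜 (d • 1)) : φ s ^ d * awayHom 𝒜 s φ hu (Away.mk 𝒜 hs d a ha) = φ a := by
  change φ s ^ d * Localization.awayLift φ s hu (Away.mk 𝒜 hs d a ha).val = φ a
  rw [Away.val_mk, Localization.mk_eq_mk']
  have h := congrArg (Localization.awayLift φ s hu)
    (IsLocalization.mk'_spec' (Localization.Away s) a (⟨s ^ d, d, rfl⟩ : Submonoid.powers s))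
  simp only [map_mul, Localization.awayLift, IsLocalization.Away.lift_eq, map_pow] at h
  exact h

theorem awayHom_eq_iff {s : A} (hs : s ∈ 𝒜 1) {φ : A →+* B} (hu : IsUnit (φ s)) {d : ℕ} {a : A}
    (ha : a ∈ 𝒜 (d • 1)) {b : B} : awayHom 𝒜 s φ hu (Away.mk 𝒜 hs d a ha) = b ↔ φ a = φ s ^ d * b := by
  rw [← awayHom_mk_mul 𝒜 hs φ hu d ha, (hu.pow d).mul_right_inj]

theorem awayHom_comp {B' : Type u} [CommRing B'] (χ : B →+* B') (s : A) (φ : A →+* B) (hu : IsUnit (φ s)) :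
    χ.comp (awayHom 𝒜 s φ hu) = awayHom 𝒜 s (χ.comp φ) (hu.map χ) := by
  rw [awayHom, awayHom, ← RingHom.comp_assoc]
  congr 1
  refine IsLocalization.ringHom_ext (M := Submonoid.powers s) ?_
  ext a
  simp [Localization.awayLift]

theorem awayHom_awayMap {s g : A} {dg : ℕ} (hg : g ∈ 𝒜 dg) {x : A} (hx : x = s * g) (φ : A →+* B)
    (hu : IsUnit (φ s)) (hux : IsUnit (φ x)) :
    (awayHom 𝒜 x φ hux).comp (awayMap 𝒜 hg hx) = awayHom 𝒜 s φ hu := by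
  subst hx
  refine RingHom.ext fun z => ?_
  change Localization.awayLift φ (s * g) hux (awayMap 𝒜 hg rfl z).val = Localization.awayLift φ s hu z.val
  rw [val_awayMap]
  change ((Localization.awayLift φ (s * g) hux).comp (IsLocalization.Away.awayToAwayRight (S := Localization.Away s)
    (P := Localization.Away (s * g)) s g)) z.val = _
  congr 1
  refine IsLocalization.ringHom_ext (M := Submonoid.powers s) ?_
  ext a
  simp [Localization.awayLift, IsLocalization.Away.awayToAwayRight_eq]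

theorem awayHom_scale {s : A} (hs : s ∈ 𝒜 1) {φ φ' : A →+* B} (hu : IsUnit (φ s)) (hu' : IsUnit (φ' s)) (c : B)
    (h : ∀ d, ∀ a ∈ 𝒜 d, φ' a = c ^ d * φ a) : awayHom 𝒜 s φ' hu' = awayHom 𝒜 s φ hu := by
  refine RingHom.ext fun z => ?_
  obtain ⟨d, a, ha, rfl⟩ := Away.mk_surjective 𝒜 hs z
  rw [awayHom_eq_iff 𝒜 hs hu' ha, h (d • 1) a ha, h 1 s hs, smul_eq_mul, mul_one, pow_one, mul_pow,
    ← awayHom_mk_mul 𝒜 hs φ hu d ha, mul_assoc]

/-- The point of `Proj 𝒜` of `φ`. -/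
def pt {T : Scheme.{u}} (s : A) (hs : s ∈ 𝒜 1) (φ : A →+* Γ(T, ⊤)) (hu : IsUnit (φ s)) : T ⟶ Proj 𝒜 :=
  toSpecHom (awayHom 𝒜 s φ hu) ≫ Proj.awayι 𝒜 s hs one_pos

theorem pt_indep {T : Scheme.{u}} {s t : A} (hs : s ∈ 𝒜 1) (ht : t ∈ 𝒜 1) (φ : A →+* Γ(T, ⊤))
    (hu : IsUnit (φ s)) (hv : IsUnit (φ t)) : pt 𝒜 s hs φ hu = pt 𝒜 t ht φ hv := by
  have hx : IsUnit (φ (s * t)) := by rw [map_mul]; exact hu.mul hv
  have e1 := congrArg (fun r => toSpecHom r ≫ Proj.awayι 𝒜 s hs one_pos)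
    (awayHom_awayMap 𝒜 ht (x := s * t) rfl φ hu hx)
  have e2 := congrArg (fun r => toSpecHom r ≫ Proj.awayι 𝒜 t ht one_pos)
    (awayHom_awayMap 𝒜 hs (x := s * t) (mul_comm s t) φ hv hx)
  simp only [← toSpecHom_specMap, Category.assoc, Proj.SpecMap_awayMap_awayι] at e1 e2
  exact e1.symm.trans e2

theorem pt_scale {T : Scheme.{u}} {s : A} (hs : s ∈ 𝒜 1) {φ φ' : A →+* Γ(T, ⊤)} (hu : IsUnit (φ s))
    (hu' : IsUnit (φ' s)) (c : Γ(T, ⊤)) (h : ∀ d, ∀ a ∈ 𝒜 d, φ' a = c ^ d * φ a) :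
    pt 𝒜 s hs φ' hu' = pt 𝒜 s hs φ hu := by
  rw [pt, pt, awayHom_scale 𝒜 hs hu hu' c h]

theorem comp_pt {T T' : Scheme.{u}} (k : T' ⟶ T) {s : A} (hs : s ∈ 𝒜 1) (φ : A →+* Γ(T, ⊤))
    (hu : IsUnit (φ s)) : k ≫ pt 𝒜 s hs φ hu = pt 𝒜 s hs (k.appTop.hom.comp φ) (hu.map k.appTop.hom) := by
  rw [pt, pt, comp_toSpecHom_assoc, awayHom_comp]

theorem pt_toSpecZero {T : Scheme.{u}} {s : A} (hs : s ∈ 𝒜 1) (φ : A →+* Γ(T, ⊤)) (hu : IsUnit (φ s)) :
    pt 𝒜 s hs φ hu ≫ Proj.toSpecZero 𝒜 = toSpecHom (φ.comp (algebraMap (𝒜 0) A)) := by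
  rw [pt, Category.assoc, Proj.awayι_toSpecZero, toSpecHom_specMap]
  congr 1
  refine RingHom.ext fun z => ?_
  change Localization.awayLift φ s hu (fromZeroRingHom 𝒜 _ z).val = φ (z : A)
  have e : (fromZeroRingHom 𝒜 (Submonoid.powers s) z).val = algebraMap A (Localization.Away s) (z : A) := by
    rw [← Localization.mk_one_eq_algebraMap]; rfl
  rw [e]
  simp [Localization.awayLift]

variable {A' σ' : Type u} [CommRing A'] [SetLike σ' A'] [AddSubgroupClass σ' A'] (𝒜' : ℕ → σ') [GradedRing 𝒜']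

theorem pt_map {T : Scheme.{u}} (θ : 𝒜 →+*ᵍ 𝒜') (hθ : 𝒜'₊ ≤ 𝒜₊.map θ)
    {s : A} (hs : s ∈ 𝒜 1) (φ : A' →+* Γ(T, ⊤)) (hu : IsUnit (φ (θ s))) :
    pt 𝒜' (θ s) (θ.map_mem hs) φ hu ≫ Proj.map θ hθ = pt 𝒜 s hs (φ.comp (θ : A →+* A')) hu := by
  rw [pt, pt, Category.assoc, Proj.awayι_comp_map θ hθ one_pos s hs, toSpecHom_specMap_assoc]
  congr 2
  refine RingHom.ext fun z => ?_
  obtain ⟨d, a, ha, rfl⟩ := Away.mk_surjective 𝒜 hs z
  symm
  rw [awayHom_eq_iff 𝒜 hs (φ := φ.comp (θ : A →+* A')) hu ha]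
  have e : Away.map θ s (Away.mk 𝒜 hs d a ha) = Away.mk 𝒜' (θ.map_mem hs) d (θ a) (θ.map_mem ha) := by
    apply HomogeneousLocalization.val_injective
    simp
  rw [RingHom.comp_apply, RingHom.comp_apply]
  change φ (θ a) = φ (θ s) ^ d * awayHom 𝒜' (θ s) φ hu (Away.map θ s _)
  rw [e, awayHom_mk_mul]

theorem pt_preimage_basicOpen {T : Scheme.{u}} {s t : A} (hs : s ∈ 𝒜 1) (ht : t ∈ 𝒜 1) (φ : A →+* Γ(T, ⊤))
    (hu : IsUnit (φ s)) : pt 𝒜 s hs φ hu ⁻¹ᵁ Proj.basicOpen 𝒜 t = T.basicOpen (φ t) := by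
  rw [pt, Scheme.Hom.comp_preimage, Proj.awayι_preimage_basicOpen 𝒜 hs one_pos ht one_pos, toSpecHom,
    Scheme.Hom.comp_preimage]
  change T.toSpecΓ ⁻¹ᵁ PrimeSpectrum.basicOpen (awayHom 𝒜 s φ hu (Away.isLocalizationElem hs ht)) = _
  rw [T.toSpecΓ_preimage_basicOpen]
  have h2 := awayHom_mk_mul 𝒜 hs φ hu 1 (a := t ^ 1) (by simpa using ht)
  have e : Away.isLocalizationElem hs ht = Away.mk 𝒜 hs 1 (t ^ 1) (by simpa using ht) := by
    apply HomogeneousLocalization.val_injective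
    simp [Away.isLocalizationElem]
  have h3 : awayHom 𝒜 s φ hu (Away.isLocalizationElem hs ht) * φ s = φ t := by
    rw [e, mul_comm]
    exact ((congrArg (· * _) (pow_one (φ s)).symm).trans h2).trans (congrArg φ (pow_one t))
  rw [← h3, Scheme.basicOpen_mul, Scheme.basicOpen_of_isUnit _ hu, inf_top_eq]

theorem isOpenImmersion_pt {T : Scheme.{u}} [IsAffine T] {s : A} (hs : s ∈ 𝒜 1) (φ : A →+* Γ(T, ⊤))
    (hu : IsUnit (φ s)) (hb : Function.Bijective (awayHom 𝒜 s φ hu)) :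
    IsOpenImmersion (pt 𝒜 s hs φ hu) ∧ (Set.range (pt 𝒜 s hs φ hu) = Proj.basicOpen 𝒜 s) := by
  haveI : IsIso (CommRingCat.ofHom (awayHom 𝒜 s φ hu)) :=
    (RingEquiv.ofBijective _ hb).toCommRingCatIso.isIso_hom
  haveI : IsIso (toSpecHom (awayHom 𝒜 s φ hu)) := by unfold toSpecHom; infer_instance
  haveI : IsOpenImmersion (pt 𝒜 s hs φ hu) := by unfold pt; infer_instance
  refine ⟨inferInstance, ?_⟩
  have h := congrArg (fun U : (Proj 𝒜).Opens => (U : Set (Proj 𝒜))) (Proj.opensRange_awayι 𝒜 s hs one_pos)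
  rw [← h, pt]
  exact congrArg (fun U : (Proj 𝒜).Opens => (U : Set (Proj 𝒜)))
    (Scheme.Hom.opensRange_comp_of_isIso (toSpecHom (awayHom 𝒜 s φ hu)) (Proj.awayι 𝒜 s hs one_pos))

end Groth.Agent.Lib.HProj.Pt
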