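import Groth.Agent.Lib.HProj.Proper
import Groth.Agent.Lib.ProjSpace.BaseChange
import Mathlib.AlgebraicGeometry.ProjectiveSpectrum.Functor
import Mathlib.RingTheory.MvPolynomial.Ideal
import Mathlib.AlgebraicGeometry.Morphisms.ClosedImmersion

/-!
# A projective morphism to an affine scheme is H-projective
-/

noncomputable section

universe u

open CategoryTheory AlgebraicGeometry TopologicalSpace Opposite HomogeneousLocalization
open scoped HomogeneousIdeal

namespace Groth.Agent.Lib.HProj.AffineBase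

open ProjSpace.Charts

section Ring

variable {R A : Type u} [CommRing R] [CommRing A] (𝒜 : ℕ → AddSubgroup A) [GradedRing 𝒜] (ψ : R →+* 𝒜 0)
  {N : ℕ} (t : Fin (N + 1) → A) (ht : ∀ i, t i ∈ 𝒜 1)

/-- `R[T] → A`, `T_i ↦ t i`. -/
def evalT : MvPolynomial (Fin (N + 1)) R →+* A :=
  MvPolynomial.eval₂Hom ((algebraMap (𝒜 0) A).comp ψ) t

include ht in
theorem evalT_mem {d : ℕ} {p : MvPolynomial (Fin (N + 1)) R} (hp : p.IsHomogeneous d) : evalT 𝒜 ψ t p ∈ 𝒜 d := by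
  classical
  rw [evalT, MvPolynomial.coe_eval₂Hom, MvPolynomial.eval₂_eq]
  refine AddSubgroup.sum_mem _ fun m hm => ?_
  have hd : ∑ i ∈ m.support, m i = d := (hp.degree_eq_sum_deg_support hm).symm
  have h1 : ∏ i ∈ m.support, t i ^ m i ∈ 𝒜 d := hd ▸ SetLike.prod_mem_graded _ _ _ fun i _ => by
    simpa using SetLike.pow_mem_graded (m i) (ht i)
  simpa using SetLike.mul_mem_graded (ψ (MvPolynomial.coeff m p)).2 h1

/-- The graded map `R[T] → A`. -/
def θ : GradedRingHom (CohB1.polyGrading N R) 𝒜 where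
  toRingHom := evalT 𝒜 ψ t
  map_mem h := evalT_mem 𝒜 ψ t ht ((MvPolynomial.mem_homogeneousSubmodule _ _).1 h)

theorem θ_X (i : Fin (N + 1)) : θ 𝒜 ψ t ht (MvPolynomial.X i) = t i := MvPolynomial.eval₂Hom_X' _ _ i

theorem θ_C (r : R) : θ 𝒜 ψ t ht (MvPolynomial.C r) = (ψ r : A) := MvPolynomial.eval₂Hom_C _ _ r

variable (hgen : Subring.closure ((𝒜 0 : Set A) ∪ (𝒜 1 : Set A)) = ⊤)
  (hspan : ∀ x ∈ 𝒜 1, ∃ c : Fin (N + 1) → R, x = ∑ i, (ψ (c i) : A) * t i)

include ht hgen hspan in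
theorem exists_decomp (a : A) : ∃ x ∈ 𝒜 0, ∃ q ∈ Ideal.span (Set.range (MvPolynomial.X :
    Fin (N + 1) → MvPolynomial (Fin (N + 1)) R)), a = x + evalT 𝒜 ψ t q := by
  let J := Ideal.span (Set.range (MvPolynomial.X : Fin (N + 1) → MvPolynomial (Fin (N + 1)) R))
  have hone : ∀ y ∈ 𝒜 1, ∃ q ∈ J, y = evalT 𝒜 ψ t q := fun y hy => by
    obtain ⟨c, hc⟩ := hspan y hy
    refine ⟨∑ i, MvPolynomial.C (c i) * MvPolynomial.X i,
      J.sum_mem fun i _ => J.mul_mem_left _ (Ideal.subset_span ⟨i, rfl⟩), ?_⟩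
    rw [hc, map_sum]
    exact Finset.sum_congr rfl fun i _ => by simp [evalT]
  have hzero : ∀ x ∈ 𝒜 0, ∀ q ∈ J, ∃ q' ∈ J, x * evalT 𝒜 ψ t q = evalT 𝒜 ψ t q' := by
    intro x hx q hq
    obtain ⟨c, rfl⟩ := Ideal.mem_span_range_iff_exists_fun.1 hq
    choose e he he' using fun i => hone (x * t i) (by simpa using SetLike.mul_mem_graded hx (ht i))
    refine ⟨∑ i, c i * e i, J.sum_mem fun i _ => J.mul_mem_left _ (he i), ?_⟩
    rw [map_sum, map_sum, Finset.mul_sum]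
    refine Finset.sum_congr rfl fun i _ => ?_
    rw [map_mul, map_mul, ← he' i, show evalT 𝒜 ψ t (MvPolynomial.X i) = t i from MvPolynomial.eval₂Hom_X' _ _ i]
    ring
  have ha : a ∈ Subring.closure ((𝒜 0 : Set A) ∪ (𝒜 1 : Set A)) := hgen ▸ Subring.mem_top a
  induction ha using Subring.closure_induction with
  | mem y hy =>
    rcases hy with hy | hy
    · exact ⟨y, hy, 0, J.zero_mem, by simp⟩
    · obtain ⟨q, hq, rfl⟩ := hone y hy
      exact ⟨0, zero_mem _, q, hq, by simp⟩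
  | zero => exact ⟨0, zero_mem _, 0, J.zero_mem, by simp⟩
  | one => exact ⟨1, SetLike.GradedOne.one_mem, 0, J.zero_mem, by simp⟩
  | add y z _ _ hy hz =>
    obtain ⟨x, hx, q, hq, rfl⟩ := hy
    obtain ⟨x', hx', q', hq', rfl⟩ := hz
    exact ⟨x + x', add_mem hx hx', q + q', J.add_mem hq hq', by rw [map_add]; ring⟩
  | neg y _ hy =>
    obtain ⟨x, hx, q, hq, rfl⟩ := hy
    exact ⟨-x, neg_mem hx, -q, J.neg_mem hq, by rw [map_neg]; ring⟩
  | mul y z _ _ hy hz =>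
    obtain ⟨x, hx, q, hq, rfl⟩ := hy
    obtain ⟨x', hx', q', hq', rfl⟩ := hz
    obtain ⟨q₁, h₁, e₁⟩ := hzero x hx q' hq'
    obtain ⟨q₂, h₂, e₂⟩ := hzero x' hx' q hq
    refine ⟨x * x', by simpa using SetLike.mul_mem_graded hx hx', q₁ + q₂ + q * q',
      J.add_mem (J.add_mem h₁ h₂) (J.mul_mem_left _ hq'), ?_⟩
    rw [map_add, map_add, map_mul, ← e₁, ← e₂]
    ring

include hgen hspan ht in
theorem exists_homogeneous_preimage {d : ℕ} (hd : 0 < d) {a : A} (ha : a ∈ 𝒜 d) :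
    ∃ p : MvPolynomial (Fin (N + 1)) R, p.IsHomogeneous d ∧ evalT 𝒜 ψ t p = a := by
  classical
  obtain ⟨x, hx, q, -, rfl⟩ := exists_decomp 𝒜 ψ t ht hgen hspan a
  refine ⟨MvPolynomial.homogeneousComponent d q, MvPolynomial.homogeneousComponent_isHomogeneous d q, ?_⟩
  have h : θ 𝒜 ψ t ht (((DirectSum.decompose (CohB1.polyGrading N R) q) d : MvPolynomial (Fin (N + 1)) R)) =
      ((DirectSum.decompose 𝒜 (θ 𝒜 ψ t ht q)) d : A) :=
    GradedRingHom.map_directSumDecompose (CohB1.polyGrading N R) 𝒜 (θ 𝒜 ψ t ht)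
  rw [← MvPolynomial.decomposition.decompose'_apply]
  refine Eq.trans h ?_
  show ((DirectSum.decompose 𝒜 (evalT 𝒜 ψ t q)) d : A) = _
  have hq : evalT 𝒜 ψ t q = (x + evalT 𝒜 ψ t q) - x := by ring
  conv_lhs => rw [hq, DirectSum.decompose_sub]
  rw [DirectSum.sub_apply, AddSubgroup.coe_sub, DirectSum.decompose_of_mem_same _ ha,
    DirectSum.decompose_of_mem_ne _ hx hd.ne, sub_zero]

include hgen hspan in
theorem irrelevant_le : 𝒜₊ ≤ (CohB1.polyGrading N R)₊.map (θ 𝒜 ψ t ht) := by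
  rw [HomogeneousIdeal.irrelevant_le]
  intro d hd a ha
  obtain ⟨p, hp, rfl⟩ := exists_homogeneous_preimage 𝒜 ψ t ht hgen hspan hd ha
  exact Ideal.mem_map_of_mem _
    (HomogeneousIdeal.mem_irrelevant_of_mem _ hd ((MvPolynomial.mem_homogeneousSubmodule _ _).2 hp))

/-- `Proj 𝒜 ⟶ P^N_R`. -/
def toProjSpace : Proj 𝒜 ⟶ CohB1.ProjSpace N R :=
  Proj.map (θ 𝒜 ψ t ht) (irrelevant_le 𝒜 ψ t ht hgen hspan)

theorem isClosedImmersion_toProjSpace : IsClosedImmersion (toProjSpace 𝒜 ψ t ht hgen hspan) := by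
  let 𝒰 : (CohB1.ProjSpace N R).OpenCover := .mkOfCovers (Fin (N + 1))
    (fun i => Spec (CommRingCat.of (AwayX R i)))
    (fun i => ProjSpace.Basic.awayχ R i)
    (fun x => by
      obtain ⟨i, hi⟩ := ProjSpace.Basic.exists_mem_opensRange_chartι N R x
      rw [ProjSpace.Basic.opensRange_chartι, ← ProjSpace.Basic.opensRange_awayχ] at hi
      exact ⟨i, hi⟩)
    (fun _ => inferInstance)
  refine IsZariskiLocalAtTarget.of_openCover (P := @IsClosedImmersion) 𝒰 fun (i : Fin (N + 1)) => ?_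
  let θ' := θ 𝒜 ψ t ht
  have hsq : IsPullback (Spec.map (CommRingCat.ofHom (Away.map θ' (MvPolynomial.X i))))
      (Proj.awayι 𝒜 (θ' (MvPolynomial.X i)) (θ'.map_mem (X_mem_one i)) one_pos)
      (ProjSpace.Basic.awayχ R i) (toProjSpace 𝒜 ψ t ht hgen hspan) := by
    refine IsOpenImmersion.isPullback _ _ _ _
      (Proj.awayι_comp_map θ' (irrelevant_le 𝒜 ψ t ht hgen hspan) one_pos _ (X_mem_one i)) ?_
    rw [ProjSpace.Basic.opensRange_awayχ, Proj.opensRange_awayι]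
    exact Proj.map_preimage_basicOpen θ' (irrelevant_le 𝒜 ψ t ht hgen hspan) _
  have hcl : IsClosedImmersion (Spec.map (CommRingCat.ofHom (Away.map θ' (MvPolynomial.X i)))) := by
    refine IsClosedImmersion.spec_of_surjective _ fun z => ?_
    obtain ⟨d, a, ha, rfl⟩ := Away.mk_surjective 𝒜 (θ'.map_mem (X_mem_one i)) z
    have hd : d • 1 = d := by simp
    have ha' : a ∈ 𝒜 d := hd ▸ ha
    have hmem : θ' (MvPolynomial.X i) * a ∈ 𝒜 (d + 1) := by
      have := SetLike.mul_mem_graded (θ'.map_mem (X_mem_one (R := R) i)) ha'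
      rwa [add_comm] at this
    obtain ⟨p, hp, hpa⟩ := exists_homogeneous_preimage 𝒜 ψ t ht hgen hspan (Nat.succ_pos d) hmem
    refine ⟨Away.mk (CohB1.polyGrading N R) (X_mem_one i) (d + 1) p
      (by simpa using (MvPolynomial.mem_homogeneousSubmodule _ _).2 hp), ?_⟩
    apply HomogeneousLocalization.val_injective
    show (Away.map θ' (MvPolynomial.X i) (Away.mk _ (X_mem_one i) (d + 1) p _)).val = _
    simp only [Away.map_mk, Away.val_mk]
    rw [Localization.mk_eq_mk_iff, Localization.r_iff_exists]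
    refine ⟨1, ?_⟩
    show (1 : A) * ((θ' (MvPolynomial.X i)) ^ d * θ' p) = 1 * ((θ' (MvPolynomial.X i)) ^ (d + 1) * a)
    rw [show θ' p = θ' (MvPolynomial.X i) * a from hpa]
    ring
  show IsClosedImmersion (Limits.pullback.snd (toProjSpace 𝒜 ψ t ht hgen hspan) (ProjSpace.Basic.awayχ R i))
  rw [← hsq.flip.isoPullback_inv_snd]
  haveI := hcl
  infer_instance

theorem toProjSpace_toSpec : toProjSpace 𝒜 ψ t ht hgen hspan ≫ CohB1.ProjSpace.toSpec N R =
    Proj.toSpecZero 𝒜 ≫ Spec.map (CommRingCat.ofHom ψ) := by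
  classical
  have hadj : Algebra.adjoin (𝒜 0) (Set.range t) = ⊤ := by
    refine top_le_iff.1 fun a hatop => ?_
    clear hatop
    obtain ⟨x, hx, q, -, rfl⟩ := exists_decomp 𝒜 ψ t ht hgen hspan a
    refine add_mem (Subalgebra.algebraMap_mem _ (⟨x, hx⟩ : 𝒜 0)) ?_
    induction q using MvPolynomial.induction_on with
    | C r =>
      rw [show evalT 𝒜 ψ t (MvPolynomial.C r) = (algebraMap (𝒜 0) A) (ψ r) from MvPolynomial.eval₂Hom_C _ _ r]
      exact Subalgebra.algebraMap_mem _ (ψ r)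
    | add p q hp hq => rw [map_add]; exact add_mem hp hq
    | mul_X p i hp =>
      rw [map_mul, show evalT 𝒜 ψ t (MvPolynomial.X i) = t i from MvPolynomial.eval₂Hom_X' _ _ i]
      exact mul_mem hp (Algebra.subset_adjoin ⟨i, rfl⟩)
  have hcov := Proj.iSup_basicOpen_eq_top' 𝒜 t (fun i => ⟨_, ht i⟩) hadj
  let θ' := θ 𝒜 ψ t ht
  let 𝒱 : (Proj 𝒜).OpenCover := .mkOfCovers (Fin (N + 1))
    (fun i => Spec (.of (Away 𝒜 (θ' (MvPolynomial.X i)))))
    (fun i => Proj.awayι 𝒜 (θ' (MvPolynomial.X i)) (θ'.map_mem (X_mem_one i)) one_pos)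
    (fun x => by
      obtain ⟨i, hi⟩ := Opens.mem_iSup.1 (hcov.ge (Opens.mem_top x))
      rw [← θ_X 𝒜 ψ t ht i, ← Proj.opensRange_awayι 𝒜 (θ' (MvPolynomial.X i))
        (θ'.map_mem (X_mem_one i)) one_pos] at hi
      exact ⟨i, hi⟩)
    (fun _ => inferInstance)
  refine Scheme.Cover.hom_ext 𝒱 _ _ fun (i : Fin (N + 1)) => ?_
  show Proj.awayι 𝒜 (θ' (MvPolynomial.X i)) _ one_pos ≫ _ = Proj.awayι 𝒜 (θ' (MvPolynomial.X i)) _ one_pos ≫ _
  rw [Proj.awayι_toSpecZero_assoc, toProjSpace]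
  refine ((Category.assoc _ _ _).symm.trans ((congrArg (· ≫ CohB1.ProjSpace.toSpec N R)
    (Proj.awayι_comp_map θ' _ one_pos _ (X_mem_one i))).trans (Category.assoc _ _ _))).trans ?_
  refine (congrArg (Spec.map (CommRingCat.ofHom (Away.map θ' (MvPolynomial.X i))) ≫ ·)
    (ProjSpace.Basic.awayχ_toSpec R i)).trans ?_
  rw [← Spec.map_comp, ← Spec.map_comp]
  congr 1
  refine CommRingCat.hom_ext (RingHom.ext fun r => ?_)
  apply HomogeneousLocalization.val_injective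
  show (Away.map θ' (MvPolynomial.X i) (constHom R i r)).val = _
  show Localization.mk (θ' (MvPolynomial.C r)) _ = Localization.mk (ψ r : A) _
  congr 1
  · exact θ_C 𝒜 ψ t ht r
  · exact Subtype.ext (map_one θ')

end Ring

end Groth.Agent.Lib.HProj.AffineBase
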