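import Groth.Agent.Lib.ProjSpace.Charts
import Mathlib.RingTheory.PowerSeries.Basic
import Mathlib.AlgebraicGeometry.AffineScheme
import Mathlib.AlgebraicGeometry.Restrict

/-!
# Coordinate data of a closed subscheme of projective space over a base

`Data f N`: opens `V i` of `X` with coordinates `u i j`; over an open `W` of the base, the ring
`Ring W = ∏ i, Γ(V i ∩ f⁻¹W)⟦t⟧` and the evaluation `ev W : Γ(W)[T] → Ring W`, `T j ↦ t * u i j`.
-/

noncomputable section

universe u

open CategoryTheory AlgebraicGeometry TopologicalSpace MvPolynomial Opposite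

namespace Groth.Agent.Lib.HProj

/-- Coordinate data of a closed subscheme of projective `N`-space. -/
structure Data {X S : Scheme.{u}} (f : X ⟶ S) (N : ℕ) where
  /-- the pieces -/
  V : Fin (N + 1) → X.Opens
  cover : ⨆ i, V i = ⊤
  /-- the coordinates -/
  u : ∀ i, Fin (N + 1) → Γ(X, V i)
  u_self : ∀ i, u i i = 1
  basicOpen_u : ∀ i k, X.basicOpen (u i k) = V i ⊓ V k
  rel : ∀ i k l (W : X.Opens) (hi : W ≤ V i) (hk : W ≤ V k),
    X.presheaf.map (homOfLE hk).op (u k l) =
      X.presheaf.map (homOfLE hk).op (u k i) * X.presheaf.map (homOfLE hi).op (u i l)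
  affine : ∀ (U : S.Opens), IsAffineOpen U → ∀ i, IsAffineOpen (V i ⊓ f ⁻¹ᵁ U)
  gen : ∀ (U : S.Opens) (_ : IsAffineOpen U) (i),
    Subring.closure (Set.range (f.appLE U (V i ⊓ f ⁻¹ᵁ U) inf_le_right) ∪
      Set.range fun j => X.presheaf.map (homOfLE (inf_le_left : V i ⊓ f ⁻¹ᵁ U ≤ V i)).op (u i j)) = ⊤

namespace Data

variable {X S : Scheme.{u}} {f : X ⟶ S} {N : ℕ} (D : Data f N)

/-- The piece `V i` over `W`. -/
abbrev piece (i : Fin (N + 1)) (W : S.Opens) : X.Opens := D.V i ⊓ f ⁻¹ᵁ W

theorem piece_mono (i : Fin (N + 1)) {W W' : S.Opens} (h : W' ≤ W) : D.piece i W' ≤ D.piece i W :=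
  inf_le_inf_left _ (f.preimage_mono h)

/-- The ambient ring over `W`. -/
abbrev Amb (W : S.Opens) : Type u := ∀ i : Fin (N + 1), PowerSeries Γ(X, D.piece i W)

/-- Restriction of functions on a piece. -/
def pres (i : Fin (N + 1)) {W W' : S.Opens} (h : W' ≤ W) : Γ(X, D.piece i W) →+* Γ(X, D.piece i W') :=
  (X.presheaf.map (homOfLE (D.piece_mono i h)).op).hom

/-- Restriction of the ambient rings. -/
def ares {W W' : S.Opens} (h : W' ≤ W) : D.Amb W →+* D.Amb W' :=
  Pi.ringHom fun i => (PowerSeries.map (D.pres i h)).comp (Pi.evalRingHom _ i)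

theorem ares_apply {W W' : S.Opens} (h : W' ≤ W) (s : D.Amb W) (i : Fin (N + 1)) :
    D.ares h s i = PowerSeries.map (D.pres i h) (s i) := rfl

theorem coeff_ares {W W' : S.Opens} (h : W' ≤ W) (s : D.Amb W) (i : Fin (N + 1)) (d : ℕ) :
    PowerSeries.coeff d (D.ares h s i) = D.pres i h (PowerSeries.coeff d (s i)) :=
  PowerSeries.coeff_map _ _ _

theorem ares_self {W : S.Opens} (h : W ≤ W) (s : D.Amb W) : D.ares h s = s := by
  funext i
  ext d
  rw [coeff_ares]
  exact (congrArg (fun m => m (PowerSeries.coeff d (s i))) (X.presheaf.map_id _)).trans rfl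

theorem ares_ares {W W' W'' : S.Opens} (h : W' ≤ W) (h' : W'' ≤ W') (s : D.Amb W) :
    D.ares h' (D.ares h s) = D.ares (h'.trans h) s := by
  funext i
  ext d
  simp only [coeff_ares, pres]
  rw [← CommRingCat.comp_apply, ← Functor.map_comp]
  rfl

/-- The functions of the base on a piece. -/
def base (i : Fin (N + 1)) (W : S.Opens) : Γ(S, W) →+* Γ(X, D.piece i W) :=
  (f.appLE W (D.piece i W) inf_le_right).hom

/-- The coordinates over `W`. -/
def coordAt (i : Fin (N + 1)) (W : S.Opens) (j : Fin (N + 1)) : Γ(X, D.piece i W) :=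
  X.presheaf.map (homOfLE (inf_le_left : D.piece i W ≤ D.V i)).op (D.u i j)

/-- Evaluation at the coordinates. -/
def eval1 (i : Fin (N + 1)) (W : S.Opens) : MvPolynomial (Fin (N + 1)) Γ(S, W) →+* Γ(X, D.piece i W) :=
  eval₂Hom (D.base i W) (D.coordAt i W)

/-- Evaluation at `t` times the coordinates. -/
def ev (W : S.Opens) : MvPolynomial (Fin (N + 1)) Γ(S, W) →+* D.Amb W :=
  Pi.ringHom fun i => eval₂Hom ((PowerSeries.C).comp (D.base i W))
    fun j => PowerSeries.X * PowerSeries.C (D.coordAt i W j)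

theorem ev_apply (W : S.Opens) (p : MvPolynomial (Fin (N + 1)) Γ(S, W)) (i : Fin (N + 1)) :
    D.ev W p i = eval₂Hom ((PowerSeries.C).comp (D.base i W))
      (fun j => PowerSeries.X * PowerSeries.C (D.coordAt i W j)) p := rfl

theorem ev_of_isHomogeneous (W : S.Opens) {p : MvPolynomial (Fin (N + 1)) Γ(S, W)} {m : ℕ}
    (hp : p.IsHomogeneous m) (i : Fin (N + 1)) :
    D.ev W p i = PowerSeries.X ^ m * PowerSeries.C (D.eval1 i W p) := by
  show eval₂Hom ((PowerSeries.C).comp (D.base i W))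
    (fun j => PowerSeries.X * PowerSeries.C (D.coordAt i W j)) p = _
  rw [ProjSpace.Charts.eval₂Hom_mul_of_isHomogeneous _ _ _ hp]
  congr 1
  have : eval₂Hom ((PowerSeries.C).comp (D.base i W)) (fun j => PowerSeries.C (D.coordAt i W j)) =
      (PowerSeries.C).comp (D.eval1 i W) := by
    apply MvPolynomial.ringHom_ext <;> intro j <;> simp [eval1]
  exact DFunLike.congr_fun this p

theorem coeff_ev (W : S.Opens) (p : MvPolynomial (Fin (N + 1)) Γ(S, W)) (i : Fin (N + 1)) (d : ℕ) :
    PowerSeries.coeff d (D.ev W p i) = D.eval1 i W (homogeneousComponent d p) := by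
  classical
  conv_lhs => rw [← sum_homogeneousComponent p, map_sum, Finset.sum_apply, map_sum]
  rw [Finset.sum_eq_single d]
  · rw [D.ev_of_isHomogeneous W (homogeneousComponent_isHomogeneous d p), PowerSeries.coeff_X_pow_mul',
      if_pos le_rfl, Nat.sub_self, PowerSeries.coeff_zero_C]
  · intro e _ he
    rw [D.ev_of_isHomogeneous W (homogeneousComponent_isHomogeneous e p), PowerSeries.coeff_X_pow_mul']
    split_ifs with h
    · rw [PowerSeries.coeff_C, if_neg (by omega)]
    · rfl
  · intro hd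
    rw [homogeneousComponent_eq_zero d p (by simpa using hd)]
    simp

theorem ev_C (W : S.Opens) (r : Γ(S, W)) (i : Fin (N + 1)) :
    D.ev W (C r) i = PowerSeries.C (D.base i W r) := by
  simp [ev_apply]

/-- Restriction of polynomials. -/
def polyRes {W W' : S.Opens} (h : W' ≤ W) :
    MvPolynomial (Fin (N + 1)) Γ(S, W) →+* MvPolynomial (Fin (N + 1)) Γ(S, W') :=
  MvPolynomial.map (S.presheaf.map (homOfLE h).op).hom

theorem base_res (i : Fin (N + 1)) {W W' : S.Opens} (h : W' ≤ W) (r : Γ(S, W)) :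
    D.pres i h (D.base i W r) = D.base i W' (S.presheaf.map (homOfLE h).op r) := by
  simp only [pres, base]
  rw [← CommRingCat.comp_apply, ← CommRingCat.comp_apply, Scheme.Hom.appLE_map, Scheme.Hom.map_appLE]

theorem coordAt_res (i : Fin (N + 1)) {W W' : S.Opens} (h : W' ≤ W) (j : Fin (N + 1)) :
    D.pres i h (D.coordAt i W j) = D.coordAt i W' j := by
  simp only [pres, coordAt]
  rw [← CommRingCat.comp_apply, ← Functor.map_comp]
  rfl

theorem ev_res {W W' : S.Opens} (h : W' ≤ W) (p : MvPolynomial (Fin (N + 1)) Γ(S, W)) :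
    D.ares h (D.ev W p) = D.ev W' (polyRes h p) := by
  have : (D.ares h).comp (D.ev W) = (D.ev W').comp (polyRes h) := by
    apply MvPolynomial.ringHom_ext
    · intro r
      funext i
      simp [ev_apply, ares_apply, polyRes, D.base_res i h r]
    · intro j
      funext i
      simp [ev_apply, ares_apply, polyRes, D.coordAt_res i h j]
  exact DFunLike.congr_fun this p

/-- All coefficients vanish from degree `n` on. -/
def Bounded {W : S.Opens} (n : ℕ) (s : D.Amb W) : Prop :=
  ∀ i d, n ≤ d → PowerSeries.coeff d (s i) = 0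

theorem bounded_ev {W : S.Opens} (p : MvPolynomial (Fin (N + 1)) Γ(S, W)) :
    D.Bounded (p.totalDegree + 1) (D.ev W p) := by
  intro i d hd
  rw [coeff_ev, homogeneousComponent_eq_zero d p (by omega), map_zero]

theorem isAffineOpen_piece {U : S.Opens} (hU : IsAffineOpen U) (i : Fin (N + 1)) :
    IsAffineOpen (D.piece i U) := D.affine U hU i

theorem piece_basicOpen {U : S.Opens} (i : Fin (N + 1)) (r : Γ(S, U)) :
    D.piece i (S.basicOpen r) = X.basicOpen (D.base i U r) := by
  rw [base]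
  change _ = X.basicOpen (f.appLE U (D.piece i U) inf_le_right r)
  rw [Scheme.basicOpen_appLE]
  show D.V i ⊓ f ⁻¹ᵁ S.basicOpen r = D.V i ⊓ f ⁻¹ᵁ U ⊓ f ⁻¹ᵁ S.basicOpen r
  rw [inf_assoc, inf_eq_right.2 (f.preimage_mono (S.basicOpen_le r))]

theorem isLocalization_pres {U : S.Opens} (hU : IsAffineOpen U) (r : Γ(S, U)) (i : Fin (N + 1)) :
    letI := (D.pres i (S.basicOpen_le r)).toAlgebra
    IsLocalization.Away (D.base i U r) Γ(X, D.piece i (S.basicOpen r)) :=
  (D.affine U hU i).isLocalization_of_eq_basicOpen (D.base i U r)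
    (homOfLE (D.piece_mono i (S.basicOpen_le r))) (D.piece_basicOpen i r)

/-- A bounded element that vanishes on `D(r)` is killed by a power of `r`. -/
theorem exists_pow_kill {U : S.Opens} (hU : IsAffineOpen U) (r : Γ(S, U)) {n : ℕ} (s : D.Amb U)
    (hn : D.Bounded n s) (h : D.ares (S.basicOpen_le r) s = 0) : ∃ m : ℕ, D.ev U (C r) ^ m * s = 0 := by
  classical
  have key : ∀ q : Fin (N + 1) × Fin n, ∃ m : ℕ,
      D.base q.1 U r ^ m * PowerSeries.coeff (q.2 : ℕ) (s q.1) = 0 := by
    intro q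
    let := (D.pres q.1 (S.basicOpen_le r)).toAlgebra
    haveI := D.isLocalization_pres hU r q.1
    obtain ⟨⟨_, m, rfl⟩, hm⟩ := (IsLocalization.map_eq_zero_iff (Submonoid.powers (D.base q.1 U r))
      Γ(X, D.piece q.1 (S.basicOpen r)) (PowerSeries.coeff (q.2 : ℕ) (s q.1))).1 (by
        have := congrArg (fun t => PowerSeries.coeff (q.2 : ℕ) (t q.1)) h
        simp only [coeff_ares, Pi.zero_apply, map_zero] at this
        exact this)
    exact ⟨m, hm⟩
  choose m hm using key
  refine ⟨Finset.univ.sup m, funext fun i => PowerSeries.ext fun d => ?_⟩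
  rw [Pi.mul_apply, Pi.pow_apply, ev_C, ← map_pow, PowerSeries.coeff_C_mul, Pi.zero_apply, map_zero]
  by_cases hd : d < n
  · obtain ⟨k, hk⟩ := Nat.exists_eq_add_of_le (Finset.le_sup (f := m) (Finset.mem_univ ((i, ⟨d, hd⟩) :
      Fin (N + 1) × Fin n)))
    rw [hk, pow_add, mul_right_comm]
    exact (congrArg (· * _) (hm (i, ⟨d, hd⟩))).trans (zero_mul _)
  · rw [hn i d (not_lt.1 hd), mul_zero]

theorem exists_polyRes_eq {U : S.Opens} (hU : IsAffineOpen U) (r : Γ(S, U))
    (q : MvPolynomial (Fin (N + 1)) Γ(S, S.basicOpen r)) :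
    ∃ (m : ℕ) (p : MvPolynomial (Fin (N + 1)) Γ(S, U)),
      polyRes (S.basicOpen_le r) p = polyRes (S.basicOpen_le r) (C r ^ m) * q := by
  let := (S.presheaf.map (homOfLE (S.basicOpen_le r)).op).hom.toAlgebra
  haveI : IsLocalization.Away r Γ(S, S.basicOpen r) := hU.isLocalization_basicOpen r
  induction q using MvPolynomial.induction_on with
  | C a =>
    obtain ⟨m, b, hb⟩ := IsLocalization.Away.surj r a
    refine ⟨m, C b, ?_⟩
    simp only [polyRes, map_pow, MvPolynomial.map_C]
    rw [← map_pow, ← map_mul]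
    exact congrArg C (hb.symm.trans (mul_comm _ _))
  | add p q hp hq =>
    obtain ⟨m, a, ha⟩ := hp
    obtain ⟨m', b, hb⟩ := hq
    refine ⟨m + m', C r ^ m' * a + C r ^ m * b, ?_⟩
    simp only [map_add, map_mul, ha, hb, map_pow, pow_add]
    ring
  | mul_X p j hp =>
    obtain ⟨m, a, ha⟩ := hp
    refine ⟨m, a * MvPolynomial.X j, ?_⟩
    rw [map_mul, ha]
    simp only [polyRes, MvPolynomial.map_X]
    ring

end Data

end Groth.Agent.Lib.HProj
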